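import Cfsg.Agent.SM.F4.Defs
import Cfsg.Agent.SM.S6.Main
import Mathlib.GroupTheory.Index
import Mathlib.GroupTheory.Sylow

/-!
# SM (S3570), the row `³D₄(q) < F₄(q)`: the subgroups `³D₄(q)` of long type form one class (helper37)
-/

set_option autoImplicit false
set_option linter.unusedSectionVars false

namespace Cfsg.Agent.SM.F4

open Subgroup
open scoped commutatorElement MatrixGroups Pointwise

section tools

variable {G : Type} [Group G]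

theorem card_mul_relIndex {H K : Subgroup G} (h : H ≤ K) : Nat.card H * H.relIndex K = Nat.card K := by
  rw [Subgroup.relIndex, ← Nat.card_congr (Subgroup.subgroupOfEquivOfLe h).toEquiv]
  exact Subgroup.card_mul_index _

theorem card_sup_mul {K H : Subgroup G} (h : H ≤ normalizer (K : Set G)) :
    Nat.card (K ⊔ H : Subgroup G) * Nat.card (K ⊓ H : Subgroup G) = Nat.card K * Nat.card H := by
  have hKn : (K.subgroupOf (K ⊔ H)).Normal := normal_subgroupOf_of_le_normalizer (sup_le le_normalizer h)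
  have h1 := relIndex_sup_left (H.subgroupOf (K ⊔ H)) (K.subgroupOf (K ⊔ H))
  rw [← Subgroup.subgroupOf_sup le_sup_left le_sup_right, Subgroup.subgroupOf_self,
    Subgroup.relIndex_subgroupOf le_sup_right, relIndex_top_right] at h1
  have h2 : Nat.card K * K.relIndex H = Nat.card (K ⊔ H : Subgroup G) := by
    rw [← h1]
    exact card_mul_relIndex le_sup_left
  have h3 : Nat.card (K ⊓ H : Subgroup G) * K.relIndex H = Nat.card H := by
    rw [← Subgroup.inf_relIndex_right K H]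
    exact card_mul_relIndex inf_le_right
  rw [← h2, ← h3]
  ring

theorem card_mul_card_le [Finite G] {A B S : Subgroup G} (hA : A ≤ S) (hB : B ≤ S) :
    Nat.card A * Nat.card B ≤ Nat.card S * Nat.card ↥(A ⊓ B) := by
  rw [inf_comm]
  have h1 : Nat.card ↥(B ⊓ A) * B.relIndex A = Nat.card A := by
    rw [← inf_relIndex_right]
    exact card_mul_relIndex inf_le_right
  have h2 : Nat.card B * B.relIndex S = Nat.card S := card_mul_relIndex hB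
  have h3 : B.relIndex A ≤ B.relIndex S := relIndex_le_of_le_right hA (B.subgroupOf S).index_ne_zero_of_finite
  calc Nat.card A * Nat.card B = Nat.card ↥(B ⊓ A) * B.relIndex A * Nat.card B := by rw [h1]
    _ ≤ Nat.card ↥(B ⊓ A) * B.relIndex S * Nat.card B := by gcongr
    _ = Nat.card S * Nat.card ↥(B ⊓ A) := by rw [← h2]; ring

theorem mem_norm [Finite G] {X : Subgroup G} {g : G} (h : ∀ x ∈ X, g * x * g⁻¹ ∈ X) : g ∈ normalizer (X : Set G) :=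
  mem_normalizer_fintype h

theorem conj_mem {X : Subgroup G} {g x : G} (h : g ∈ normalizer (X : Set G)) (hx : x ∈ X) : g * x * g⁻¹ ∈ X :=
  (mem_normalizer_iff.1 h x).1 hx

theorem mem_sup_norm {K H : Subgroup G} (h : H ≤ normalizer (K : Set G)) {x : G} (hx : x ∈ K ⊔ H) :
    ∃ k ∈ K, ∃ y ∈ H, x = k * y := by
  have h1 : ((K ⊔ H : Subgroup G) : Set G) = (K : Set G) * (H : Set G) := coe_mul_of_right_le_normalizer_left K H h
  have h2 : x ∈ ((K ⊔ H : Subgroup G) : Set G) := hx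
  rw [h1] at h2
  obtain ⟨k, hk, y, hy, e⟩ := h2
  exact ⟨k, hk, y, hy, e.symm⟩

theorem conj_sup {K H : Subgroup G} {g : G} (h1 : ∀ x ∈ K, g * x * g⁻¹ ∈ K) (h2 : ∀ x ∈ H, g * x * g⁻¹ ∈ H) :
    ∀ x ∈ K ⊔ H, g * x * g⁻¹ ∈ K ⊔ H := fun _ hx =>
  (sup_le (a := K) (b := H) (c := (K ⊔ H).comap (MulAut.conj g).toMonoidHom) (fun y hy => mem_sup_left (h1 y hy))
    fun y hy => mem_sup_right (h2 y hy)) hx

theorem conj_of_comm {g x : G} (h : g * x = x * g) : g * x * g⁻¹ = x := by rw [h, mul_inv_cancel_right]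

theorem pow_dvd_card [Finite G] {X : Subgroup G} (h : IsPGroup 2 X) {k : ℕ} (hk : 2 ^ k ≤ Nat.card X) :
    2 ^ k ∣ Nat.card X := by
  obtain ⟨n, hn⟩ := IsPGroup.iff_card.1 h
  rw [hn] at hk ⊢
  exact pow_dvd_pow _ ((Nat.pow_le_pow_iff_right (by norm_num)).1 hk)

theorem isP {X : Subgroup G} {a n : ℕ} (h : Nat.card X = (2 ^ a) ^ n) : IsPGroup 2 X :=
  IsPGroup.of_card (h.trans (pow_mul 2 a n).symm)

theorem card_map_eq {G' : Type} [Group G'] {f : G →* G'} (hf : Function.Injective f) (X : Subgroup G) :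
    Nat.card (X.map f) = Nat.card X := (Nat.card_congr (X.equivMapOfInjective f hf).toEquiv).symm

/-- a subgroup normalised by a simple group meets it trivially or contains it -/
theorem inf_or_le {A Y : Subgroup G} (hA : IsSimpleGroup A) (h : ∀ a ∈ A, ∀ y ∈ Y, a * y * a⁻¹ ∈ Y) :
    Y ⊓ A = ⊥ ∨ A ≤ Y := by
  have hn : (Y.subgroupOf A).Normal := ⟨fun y hy a => h a a.2 y hy⟩
  rcases hn.eq_bot_or_eq_top with e | e
  · exact Or.inl (disjoint_iff.1 (subgroupOf_eq_bot.1 e))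
  · exact Or.inr (subgroupOf_eq_top.1 e)

end tools

/-- the local data of a subgroup `T ≅ ³D₄(q)` -/
structure LT (K : Type) [Field K] (q : ℕ) {S : Type} [Group S] (T Z Zm Q A : Subgroup S) : Prop where
  cardZ : Nat.card Z = q
  cardQ : Nat.card Q = q ^ 9
  ZQ : Z ≤ Q
  comQ : ⁅Q, Q⁆ = Z
  cenQ : ∀ g ∈ Q, (∀ y ∈ Q, g * y = y * g) ↔ g ∈ Z
  sqZ : ∀ z ∈ Z, z * z = 1
  isoA : Nonempty (A ≃* SL(2, K))
  simA : IsSimpleGroup A
  cardA : Nat.card A = q ^ 3 * (q ^ 6 - 1)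
  cenA : ∀ g, g ∈ A ↔ g ∈ T ∧ (∀ z ∈ Z, g * z = z * g) ∧ ∀ z ∈ Zm, g * z = z * g
  nQ : ∀ a ∈ A, ∀ y ∈ Q, a * y * a⁻¹ ∈ Q
  irr : ∀ N : Subgroup S, Z ≤ N → N ≤ Q → (∀ a ∈ A, ∀ y ∈ N, a * y * a⁻¹ ∈ N) → N = Z ∨ N = Q
  gen : Q ⊔ Zm = T
  w : ∃ w, Z.map (MulAut.conj w).toMonoidHom = Zm
  nP : ¬ IsPGroup 2 ↥(Z ⊔ Zm)

theorem LT.map {K : Type} [Field K] {q : ℕ} {S S' : Type} [Group S] [Group S'] {T Z Zm Q A : Subgroup S}
    (t : LT K q T Z Zm Q A) {f : S →* S'} (hf : Function.Injective f) :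
    LT K q (T.map f) (Z.map f) (Zm.map f) (Q.map f) (A.map f) where
  cardZ := (card_map_eq hf Z).trans t.cardZ
  cardQ := (card_map_eq hf Q).trans t.cardQ
  ZQ := map_mono t.ZQ
  comQ := by rw [← map_commutator, t.comQ]
  cenQ := by
    rintro _ ⟨g, hg, rfl⟩
    rw [mem_map_iff_mem hf, ← t.cenQ g hg]
    exact ⟨fun h y hy => hf (by rw [map_mul, map_mul]; exact h _ ⟨y, hy, rfl⟩),
      fun h _ ⟨y, hy, e⟩ => by rw [← e, ← map_mul, ← map_mul, h y hy]⟩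
  sqZ := by
    rintro _ ⟨z, hz, rfl⟩
    rw [← map_mul, t.sqZ z hz, map_one]
  isoA := ⟨(A.equivMapOfInjective f hf).symm.trans t.isoA.some⟩
  simA := (A.equivMapOfInjective f hf).isSimpleGroup_congr.1 t.simA
  cardA := (card_map_eq hf A).trans t.cardA
  cenA := fun g => by
    constructor
    · rintro ⟨g, hg, rfl⟩
      obtain ⟨h1, h2, h3⟩ := (t.cenA g).1 hg
      exact ⟨⟨g, h1, rfl⟩, fun _ ⟨y, hy, e⟩ => by rw [← e, ← map_mul, ← map_mul, h2 y hy],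
        fun _ ⟨y, hy, e⟩ => by rw [← e, ← map_mul, ← map_mul, h3 y hy]⟩
    · rintro ⟨⟨g, hg, rfl⟩, h2, h3⟩
      exact ⟨g, (t.cenA g).2 ⟨hg, fun y hy => hf (by rw [map_mul, map_mul]; exact h2 _ ⟨y, hy, rfl⟩),
        fun y hy => hf (by rw [map_mul, map_mul]; exact h3 _ ⟨y, hy, rfl⟩)⟩, rfl⟩
  nQ := by
    rintro _ ⟨a, ha, rfl⟩ _ ⟨y, hy, rfl⟩
    exact ⟨_, t.nQ a ha y hy, by rw [map_mul, map_mul, map_inv]⟩
  irr := fun N h1 h2 h3 => by
    have h4 : (N.comap f).map f = N := map_comap_eq_self (h2.trans (map_le_range f Q))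
    rcases t.irr (N.comap f) (map_le_iff_le_comap.1 h1) (fun y hy => (mem_map_iff_mem hf).1 (h2 hy))
      (fun a ha y hy => by
        rw [mem_comap, map_mul, map_mul, map_inv]
        exact h3 _ ⟨a, ha, rfl⟩ _ hy) with e | e
    · exact Or.inl (by rw [← h4, e])
    · exact Or.inr (by rw [← h4, e])
  gen := by rw [← Subgroup.map_sup, t.gen]
  w := by
    obtain ⟨w, hw⟩ := t.w
    refine ⟨f w, ?_⟩
    rw [← hw, map_map, map_map]
    congr 1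
    ext x
    simp
  nP := fun h => t.nP (by
    rw [← Subgroup.map_sup] at h
    exact h.of_equiv ((Z ⊔ Zm).equivMapOfInjective f hf).symm)

section

variable {F K : Type} [Field F] [Field K] {S : Type} [Group S] [Finite S] {a : ℕ} {Z Zm Q L : Subgroup S} {γ : MulAut S}
  {T Z' Zm' Q' A T₂ Q₂ A₂ : Subgroup S}

theorem exists_ne {q : ℕ} (hq : 2 ≤ q) (h : Nat.card Z = q) : ∃ z ∈ Z, z ≠ 1 := by
  by_contra hc
  push Not at hc
  rw [(eq_bot_iff_forall _).2 hc, card_bot] at h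
  omega

theorem two_le (ha : 1 ≤ a) : 2 ≤ 2 ^ a := by
  calc 2 = 2 ^ 1 := rfl
    _ ≤ 2 ^ a := Nat.pow_le_pow_right (by norm_num) ha

theorem LocL.cent (V : LocL F Z Zm Q L) {g : S} (hg : g ∈ Q ⊔ L) {z : S} (hz : z ∈ Z) : g * z = z * g := by
  by_cases h : z = 1
  · rw [h, mul_one, one_mul]
  · rw [← V.cz z hz h] at hg
    exact mem_centralizer_singleton_iff.1 hg

theorem LocL.normZ (V : LocL F Z Zm Q L) {g : S} (hg : g ∈ Q ⊔ L) : g ∈ normalizer (Z : Set S) :=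
  mem_norm fun z hz => by rwa [conj_of_comm (V.cent hg hz)]

theorem LocL.mem (V : LocL F Z Zm Q L) {g z : S} (hz : z ∈ Z) (h1 : z ≠ 1) (h : g * z = z * g) : g ∈ Q ⊔ L := by
  rw [← V.cz z hz h1]
  exact mem_centralizer_singleton_iff.2 h

/-- **`Q_T ≤ Q`** -/
theorem LT.le (ha : 1 ≤ a) (U : LocU (2 ^ a) Z Q) (V : LocL F Z Zm Q L) (hS : ¬ (2 ^ a) ^ 26 ∣ Nat.card S)
    (t : LT K (2 ^ a) T Z' Zm' Q' A) {z : S} (hz : z ∈ Z) (hz' : z ∈ Z') (h1 : z ≠ 1) : Q' ≤ Q := by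
  have hZ : ∀ x ∈ Z', ∀ y ∈ Q', x * y = y * x := fun x hx => (t.cenQ x (t.ZQ hx)).2 hx
  have hQ : ∀ y ∈ Q', y ∈ normalizer (Q : Set S) := fun y hy =>
    mem_norm (U.nQ y (V.normZ (V.mem hz h1 (hZ z hz' y hy).symm)))
  have hA : ∀ g ∈ A, ∀ y ∈ Q, g * y * g⁻¹ ∈ Q := fun g hg =>
    U.nQ g (V.normZ (V.mem hz h1 (((t.cenA g).1 hg).2.1 z hz')))
  have hAZ : ∀ g ∈ A, ∀ y ∈ Z', g * y * g⁻¹ ∈ Z' := fun g hg y hy => by
    rwa [conj_of_comm (((t.cenA g).1 hg).2.1 y hy)]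
  rcases t.irr (Q' ⊓ (Q ⊔ Z')) (le_inf t.ZQ le_sup_right) inf_le_left
    (fun g hg y hy => ⟨t.nQ g hg y hy.1, conj_sup (hA g hg) (hAZ g hg) y hy.2⟩) with e | e
  · exfalso
    have h2 : Q ⊓ Q' ≤ Z' := fun y hy => e ▸ (⟨hy.2, mem_sup_left hy.1⟩ : y ∈ Q' ⊓ (Q ⊔ Z'))
    have h3 := card_sup_mul (K := Q) (H := Q') hQ
    have h4 : Nat.card ↥(Q ⊓ Q') ≤ 2 ^ a := t.cardZ ▸ card_le_of_le h2
    have hP : IsPGroup 2 ↥(Q ⊔ Q') := by
      rw [sup_comm]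
      exact IsPGroup.to_sup_of_normal_right' (isP t.cardQ) (isP U.cardQ) hQ
    have h5 : 2 ^ (a * 23) ≤ Nat.card ↥(Q ⊔ Q') := by
      rw [U.cardQ, t.cardQ] at h3
      refine Nat.le_of_mul_le_mul_right (c := 2 ^ a) ?_ (by positivity)
      calc 2 ^ (a * 23) * 2 ^ a = (2 ^ a) ^ 15 * (2 ^ a) ^ 9 := by rw [pow_mul]; ring
        _ = _ := h3.symm
        _ ≤ _ := Nat.mul_le_mul_left _ h4
    have hAY : ∀ g ∈ A, ∀ y ∈ Q ⊔ Q', g * y * g⁻¹ ∈ Q ⊔ Q' := fun g hg => conj_sup (hA g hg) (t.nQ g hg)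
    have h6 : (Q ⊔ Q') ⊓ A = ⊥ := (inf_or_le t.simA hAY).resolve_right fun k => by
      obtain ⟨n, hn⟩ := IsPGroup.iff_card.1 (hP.to_le k)
      have h7 : (2 ^ a) ^ 6 - 1 ∣ 2 ^ n := hn ▸ t.cardA ▸ dvd_mul_left _ _
      obtain ⟨m, -, hm⟩ := (Nat.dvd_prime_pow Nat.prime_two).1 h7
      have h8 : 2 ^ 6 ≤ (2 ^ a) ^ 6 := Nat.pow_le_pow_left (two_le ha) 6
      have h9 : 2 ∣ (2 ^ a) ^ 6 := dvd_pow (dvd_pow_self 2 (by omega)) (by norm_num)
      rcases m with _ | m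
      · omega
      · have : 2 ∣ 2 ^ (m + 1) := dvd_pow_self 2 (by omega)
        omega
    have h7 := card_sup_mul (K := Q ⊔ Q') (H := A) fun g hg => mem_norm (hAY g hg)
    rw [h6, card_bot, mul_one, t.cardA] at h7
    refine hS (Dvd.dvd.trans ?_ (card_subgroup_dvd_card (Q ⊔ Q' ⊔ A)))
    rw [h7, show (2 ^ a) ^ 26 = 2 ^ (a * 23) * (2 ^ a) ^ 3 by rw [pow_mul]; ring]
    exact mul_dvd_mul (pow_dvd_card hP h5) (dvd_mul_right _ _)
  · have h2 : ∀ x ∈ Q', ∃ y ∈ Q, ∃ u ∈ Z', x = y * u := fun x hx =>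
      mem_sup_norm (fun u hu => hQ u (t.ZQ hu)) (e.symm ▸ hx : x ∈ Q' ⊓ (Q ⊔ Z')).2
    have h3 : Z' ≤ Q := by
      rw [← t.comQ, commutator_le]
      intro x hx x' hx'
      obtain ⟨y, hy, u, hu, rfl⟩ := h2 x hx
      obtain ⟨y', hy', u', hu', rfl⟩ := h2 x' hx'
      have k1 : y ∈ Q' := (Q'.mul_mem_cancel_right (t.ZQ hu)).1 hx
      have k2 : y' ∈ Q' := (Q'.mul_mem_cancel_right (t.ZQ hu')).1 hx'
      have k3 : ⁅y * u, y' * u'⁆ = ⁅y, y'⁆ := by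
        have c1 := hZ u hu _ hx'
        have c2 := hZ u' hu' _ (Q'.inv_mem k1)
        calc ⁅y * u, y' * u'⁆ = y * (u * (y' * u') * u⁻¹) * y⁻¹ * (y' * u')⁻¹ := by
              rw [commutatorElement_def]; group
          _ = y * y' * (u' * y⁻¹ * u'⁻¹) * y'⁻¹ := by rw [conj_of_comm c1]; group
          _ = _ := by rw [conj_of_comm c2, commutatorElement_def]
      rw [k3, commutatorElement_def]
      exact Q.mul_mem (Q.mul_mem (Q.mul_mem hy hy') (Q.inv_mem hy)) (Q.inv_mem hy')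
    intro x hx
    obtain ⟨y, hy, u, hu, rfl⟩ := h2 x hx
    exact Q.mul_mem hy (h3 hu)

theorem LT.eqZ {q : ℕ} (U : LocU q Z Q) (t : LT K q T Z' Zm' Q' A) (h : Q' ≤ Q) : Z' = Z :=
  eq_of_le_of_card_ge (t.comQ ▸ (commutator_mono h h).trans U.comQ) (by rw [t.cardZ, U.cardZ])

theorem map_conj_eq {X : Subgroup S} {p : S} (h : p ∈ normalizer (X : Set S)) : X.map (MulAut.conj p).toMonoidHom = X :=
  eq_of_le_of_card_ge (by
    rintro _ ⟨x, hx, rfl⟩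
    exact conj_mem h hx) (card_map_eq (MulAut.conj p).injective X).ge

theorem map_conj_mul (X : Subgroup S) (p g : S) :
    (X.map (MulAut.conj g).toMonoidHom).map (MulAut.conj p).toMonoidHom = X.map (MulAut.conj (p * g)).toMonoidHom := by
  rw [map_map, map_mul]
  rfl

/-- a subgroup in standard position -/
def Std (K : Type) [Field K] (q : ℕ) {S : Type} [Group S] (Z Zm Q T : Subgroup S) : Prop :=
  ∃ Q' A, LT K q T Z Zm Q' A ∧ Q' ≤ Q

/-- **standard position** -/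
theorem LT.std (ha : 1 ≤ a) (U : LocU (2 ^ a) Z Q) (V : LocL F Z Zm Q L) (W : LocF (2 ^ a) Z Zm Q L γ)
    (hS : ¬ (2 ^ a) ^ 26 ∣ Nat.card S) (t : LT K (2 ^ a) T Z' Zm' Q' A) {z : S} (hz : z ∈ Z) (hz' : z ∈ Z') (h1 : z ≠ 1) :
    ∃ p, Std K (2 ^ a) Z Zm Q (T.map (MulAut.conj p).toMonoidHom) := by
  have h2 := t.le ha U V hS hz hz' h1
  obtain rfl := t.eqZ U h2
  obtain ⟨w, hw⟩ := t.w
  obtain ⟨p, hp, e⟩ := W.opp w (hw.symm ▸ t.nP)
  have t' := t.map (f := (MulAut.conj p).toMonoidHom) (MulAut.conj p).injective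
  rw [map_conj_eq hp, ← hw, map_conj_mul, e] at t'
  refine ⟨p, _, _, t', ?_⟩
  rintro _ ⟨y, hy, rfl⟩
  exact U.nQ p hp y (h2 hy)

theorem LT.AL {q : ℕ} (V : LocL F Z Zm Q L) (t : LT K q T Z Zm Q' A) : A ≤ L := fun g hg =>
  (V.cenL g).2 ((t.cenA g).1 hg).2

/-- **`T` is determined by `A`** -/
theorem LT.eq (ha : 1 ≤ a) (U : LocU (2 ^ a) Z Q) (t : LT K (2 ^ a) T Z Zm Q' A) (t₂ : LT K (2 ^ a) T₂ Z Zm Q₂ A)
    (h : Q' ≤ Q) (h₂ : Q₂ ≤ Q) : T = T₂ := by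
  have h1 := card_mul_card_le h h₂
  rw [t.cardQ, t₂.cardQ, U.cardQ] at h1
  rcases t.irr (Q' ⊓ Q₂) (le_inf t.ZQ t₂.ZQ) inf_le_left
    (fun g hg y hy => ⟨t.nQ g hg y hy.1, t₂.nQ g hg y hy.2⟩) with e | e
  · exfalso
    rw [e, U.cardZ, ← pow_add, ← pow_succ, Nat.pow_le_pow_iff_right (two_le ha)] at h1
    omega
  · rw [← t.gen, ← t₂.gen, eq_of_le_of_card_ge (inf_eq_left.1 e) (by rw [t.cardQ, t₂.cardQ])]

theorem LT.conjL {q : ℕ} (U : LocU q Z Q) (V : LocL F Z Zm Q L) (t : LT K q T Z Zm Q' A) (h : Q' ≤ Q) {c : S} (hc : c ∈ L) :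
    LT K q (T.map (MulAut.conj c).toMonoidHom) Z Zm (Q'.map (MulAut.conj c).toMonoidHom)
      (A.map (MulAut.conj c).toMonoidHom) ∧ Q'.map (MulAut.conj c).toMonoidHom ≤ Q := by
  have t' := t.map (f := (MulAut.conj c).toMonoidHom) (MulAut.conj c).injective
  have h1 := V.normZ (mem_sup_right hc)
  rw [map_conj_eq h1, map_conj_eq (X := Zm) (mem_norm fun z hz => by
    rwa [conj_of_comm (((V.cenL c).1 hc).2 z hz)])] at t'
  refine ⟨t', ?_⟩
  rintro _ ⟨y, hy, rfl⟩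
  exact U.nQ c h1 y (h hy)

variable [Finite F] [CharP F 2] [Finite K] [CharP K 2]

/-- **one class** -/
theorem Std.conj (ha : 1 ≤ a) (hK : Nat.card K = Nat.card F ^ 3) (U : LocU (2 ^ a) Z Q) (V : LocL F Z Zm Q L)
    (s : Std K (2 ^ a) Z Zm Q T) (s₂ : Std K (2 ^ a) Z Zm Q T₂) : ∃ c, T.map (MulAut.conj c).toMonoidHom = T₂ := by
  obtain ⟨Q', A, t, h⟩ := s
  obtain ⟨Q₂, A₂, t₂, h₂⟩ := s₂
  obtain ⟨c, hc⟩ := S6.conj V.isoL.some hK (A := A.subgroupOf L) (A' := A₂.subgroupOf L)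
    ⟨(subgroupOfEquivOfLe (t.AL V)).trans t.isoA.some⟩ ⟨(subgroupOfEquivOfLe (t₂.AL V)).trans t₂.isoA.some⟩
  obtain ⟨t', h'⟩ := t.conjL U V h c.2
  have e : A.map (MulAut.conj (c : S)).toMonoidHom = A₂ := eq_of_le_of_card_ge (by
    rintro _ ⟨x, hx, rfl⟩
    exact (hc ⟨x, t.AL V hx⟩).1 hx) (by rw [t'.cardA, t₂.cardA])
  rw [e] at t'
  exact ⟨c, t'.eq ha U t₂ h' h₂⟩

/-- **the normaliser contains `T.3`** -/
theorem Std.three (ha : 1 ≤ a) (hK : Nat.card K = Nat.card F ^ 3) (U : LocU (2 ^ a) Z Q) (V : LocL F Z Zm Q L)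
    (s : Std K (2 ^ a) Z Zm Q T) : 3 * Nat.card T ≤ Nat.card (normalizer (T : Set S)) := by
  obtain ⟨Q', A, t, h⟩ := s
  obtain ⟨c, hc, h1, h3⟩ := S6.three V.isoL.some hK (A := A.subgroupOf L)
    ⟨(subgroupOfEquivOfLe (t.AL V)).trans t.isoA.some⟩
  obtain ⟨t', h'⟩ := t.conjL U V h c.2
  have e : A.map (MulAut.conj (c : S)).toMonoidHom = A := eq_of_le_of_card_ge (by
    rintro _ ⟨x, hx, rfl⟩
    exact conj_mem (X := A.subgroupOf L) (x := ⟨x, t.AL V hx⟩) hc hx) (by rw [t'.cardA, t.cardA])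
  rw [e] at t'
  have h4 := t'.eq ha U t h' h
  have h5 : (c : S) ∈ normalizer (T : Set S) := mem_norm fun x hx => h4 ▸ ⟨x, hx, rfl⟩
  have h6 : (c : S) ∉ T := fun k => h1 ((t.cenA c).2 ⟨k, (V.cenL c).1 c.2⟩)
  have h7 : (c : S) ^ 3 = 1 := congrArg Subtype.val h3
  have h8 : orderOf (c : S) = 3 := orderOf_eq_prime h7 fun k => h6 (k ▸ T.one_mem)
  have h9 : T ⊓ zpowers (c : S) = ⊥ := by
    have k1 : Nat.card ↥(T ⊓ zpowers (c : S)) ∣ 3 := by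
      rw [← h8, ← Nat.card_zpowers]
      exact card_dvd_of_le inf_le_right
    rcases (Nat.dvd_prime Nat.prime_three).1 k1 with k | k
    · exact card_eq_one.1 k
    · exact absurd ((eq_of_le_of_card_ge (inf_le_right : T ⊓ zpowers (c : S) ≤ _) (by
        rw [k, Nat.card_zpowers, h8])).ge (mem_zpowers (c : S))).1 h6
  have h10 := card_sup_mul (K := T) (H := zpowers (c : S)) (zpowers_le.2 h5)
  rw [h9, card_bot, mul_one, Nat.card_zpowers, h8, mul_comm] at h10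
  rw [← h10]
  exact card_le_of_le (sup_le le_normalizer (zpowers_le.2 h5))

end

end Cfsg.Agent.SM.F4
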