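import Cfsg.Agent.SM.F4.Obj
import Cfsg.Agent.SM.F4.TT
import Cfsg.Agent.H934.HeisF4Even
import Cfsg.Agent.S1027
import Cfsg.Agent.S1047
import Cfsg.Agent.S1048
import Cfsg.Agent.S2178
import Cfsg.Agent.S2186

/-!
# SM (S3570), the row `³D₄(q) < F₄(q)`: the unipotent radical, opposite root groups, the mixed position (helper37)
-/

set_option autoImplicit false
set_option linter.unusedSectionVars false

namespace Cfsg.Agent.SM.F4

open Cfsg Cfsg.Lie Subgroup Cfsg.Agent.H70.ChevFix Cfsg.Agent.ChevalleyStructure Cfsg.Agent.ChevalleyStructure.Elts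
open Cfsg.Agent.H95.DG.F4 (hD IsGraph bar lam)
open Cfsg.Agent.H934.HeisF4Even (ct2)
open scoped commutatorElement

variable {F : Type} [Field F]

theorem fin_SS [Fintype F] : Finite (SS F) := by
  have : Finite (GL chevF4.Idx F) := Finite.of_injective _ Units.val_injective
  infer_instance

/-- the lower bound for the order of a group generated by positive root groups -/
theorem le_card_gen [Fintype F] {l : List ℕ} (h : ∀ r ∈ l, 24 ≤ r ∧ r < 48) (hn : l.Nodup) :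
    Fintype.card F ^ l.length ≤ Nat.card (gen F l) := by
  classical
  have := fin_SS (F := F)
  let c : (l.toFinset → F) → ℕ → F := fun t r => if k : r ∈ l.toFinset then t ⟨r, k⟩ else 0
  have hm : ∀ t, wordG hD ((UnipProd.rootsGE chevF4 24).map fun r => (r, c t r)) ∈ (gen F l).map (chevF4.group F).subtype :=
    fun t => mem_of_xG_mem hD fun p hp => by
      obtain ⟨r, -, rfl⟩ := List.mem_map.1 hp
      by_cases k : r ∈ l.toFinset
      · exact ⟨xe hD r _, xe_mem_gen (List.mem_toFinset.1 k) _, rfl⟩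
      · show xG hD r (c t r) ∈ _
        rw [show c t r = 0 from dif_neg k, xG_zero]
        exact one_mem _
  have h1 := Nat.card_le_card_of_injective (fun t => (⟨_, hm t⟩ : (gen F l).map (chevF4.group F).subtype))
    fun t t' e => funext fun r => by
      have k := h r (List.mem_toFinset.1 r.2)
      have := UnipProd.prod_injective hD (k := 24) (by decide) (congrArg Subtype.val e) r k.1 k.2
      rwa [show c t r = t r from dif_pos r.2, show c t' r = t' r from dif_pos r.2] at this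
  rwa [card_map_eq (subtype_injective _), Nat.card_fun, Nat.card_eq_fintype_card, Nat.card_eq_fintype_card,
    Fintype.card_coe, List.toFinset_card_of_nodup hn] at h1

theorem gen_le_of {l : List ℕ} {Y : Subgroup (GL chevF4.Idx F)} (h : ∀ r ∈ l, ∀ t : F, xG hD r t ∈ Y) {g : SS F}
    (hg : g ∈ gen F l) : (g : GL chevF4.Idx F) ∈ Y := gen_le (Y := Y.subgroupOf _) h hg

theorem inJ (r : ℕ) : chevF4.InRootSub {0, 1, 2} r ↔ r < 48 ∧ (chevF4.coroot.getD r #[]).getD 3 0 = 0 :=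
  and_congr Iff.rfl ⟨fun h => h 3 (by decide) (by simp), fun h i hi hj => by
    obtain rfl : i = 3 := by
      have : i < 4 := hi
      simp only [Set.mem_insert_iff, Set.mem_singleton_iff] at hj
      omega
    exact h⟩

theorem tabQ : ∀ r < 48, (chevF4.IsPosRoot r ∧ (chevF4.coroot.getD r #[]).getD 3 0 ≠ 0 ↔ r ∈ rQ) ∧
    ((chevF4.coroot.getD r #[]).getD 3 0 = 0 ↔ r ∈ rL) ∧ (chevF4.IsPosRoot r ↔ 24 ≤ r) := by decide +kernel

theorem ltQ : ∀ r ∈ rQ, 24 ≤ r ∧ r < 48 := by decide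

theorem ltL : ∀ r ∈ rL, r < 48 := by decide

theorem mem_Q0 {g : SS F} : g ∈ Q0 F ↔ (g : GL chevF4.Idx F) ∈ chevF4.unipotentRadical F {0, 1, 2} := by
  refine ⟨gen_le_of fun r hr t => ?_, fun h => ?_⟩
  · have k := ((tabQ r (ltQ r hr).2).1).2 hr
    exact subset_closure ⟨r, t, k.1, fun j => k.2 ((inJ r).1 j).2, rfl⟩
  · have k : chevF4.unipotentRadical F {0, 1, 2} ≤ (Q0 F).map (chevF4.group F).subtype := (closure_le _).2 (by
      rintro y ⟨r, t, h1, h2, h3⟩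
      rw [(eq_xG_iff hD y r t).2 h3]
      exact ⟨xe hD r t, xe_mem_gen (((tabQ r h1.1).1).1 ⟨h1, fun j => h2 ((inJ r).2 ⟨h1.1, j⟩)⟩) t, rfl⟩)
    exact (mem_map_iff_mem (subtype_injective _)).1 (k h)

theorem mem_levi {g : SS F} (h : g ∈ gen F rL) : (g : GL chevF4.Idx F) ∈ chevF4.leviSubgroup F {0, 1, 2} :=
  gen_le_of (fun r hr t => by
    refine mem_sup_right (Subgroup.subset_closure ?_)
    exact ⟨r, t, (inJ r).2 ⟨ltL r hr, ((tabQ r (ltL r hr)).2.1).2 hr⟩, rfl⟩) h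

theorem card_XX {r : ℕ} (hr : r < 48) : Nat.card (XX chevF4 F r) = Nat.card F :=
  (Nat.card_congr (Equiv.ofBijective (fun t => (⟨xe hD r t, xe_mem_XX hD r t⟩ : XX chevF4 F r))
    ⟨fun _ _ e => xe_inj hD hr (congrArg Subtype.val e), fun ⟨_, hg⟩ => by
      obtain ⟨t, rfl⟩ := (mem_XX hD).1 hg
      exact ⟨t, rfl⟩⟩)).symm

theorem card_Q0 [Fintype F] : Nat.card (Q0 F) = Fintype.card F ^ 15 := by
  have := fin_SS (F := F)
  refine le_antisymm ?_ (le_card_gen ltQ (by decide))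
  have h1 := le_card_gen (F := F) (l := [25, 27, 28, 30, 33, 34, 35, 37, 41]) (by decide) (by decide)
  have hU : ∀ l : List ℕ, (∀ r ∈ l, 24 ≤ r ∧ r < 48) → gen F l ≤ (chevF4.posUnipotent F).subgroupOf _ := fun l h =>
    gen_le fun r hr t => xG_mem_posUnipotent hD (((tabQ r (h r hr).2).2.2).2 (h r hr).1) t
  have h2 := card_mul_card_le (hU rQ ltQ) (hU [25, 27, 28, 30, 33, 34, 35, 37, 41] (by decide))
  have h3 : gen F rQ ⊓ gen F [25, 27, 28, 30, 33, 34, 35, 37, 41] = ⊥ := (eq_bot_iff_forall _).2 fun g hg => by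
    have k : (g : GL chevF4.Idx F) ∈ chevF4.unipotentRadical F {0, 1, 2} ⊓ chevF4.leviSubgroup F {0, 1, 2} :=
      ⟨mem_Q0.1 hg.1, mem_levi (gen_le (fun r hr t => xe_mem_gen ((by decide : ∀ r ∈ [25, 27, 28, 30, 33, 34, 35, 37, 41],
        r ∈ rL) r hr) t) hg.2)⟩
    rw [(S1048.result chevF4 hD _).2.2, mem_bot] at k
    exact Subtype.ext k
  rw [h3, card_bot, mul_one, Nat.card_congr (subgroupOfEquivOfLe (posUnipotent_le_group hD F)).toEquiv,
    S1027.result chevF4 hD] at h2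
  refine Nat.le_of_mul_le_mul_right (c := Fintype.card F ^ 9) (((Nat.mul_le_mul_left _ h1).trans h2).trans ?_)
    (by positivity)
  rw [← pow_add]
  rfl

/-- the normaliser of `Z` normalises `Q` -/
theorem norm_Q0 [CharP F 2] {g : SS F} (hg : g ∈ normalizer (Z0 F : Set (SS F))) {y : SS F} (hy : y ∈ Q0 F) :
    g * y * g⁻¹ ∈ Q0 F := by
  have k : ∀ g ∈ normalizer (Z0 F : Set (SS F)), ∀ x ∈ chevF4.rootSubgroup F 47,
      (g : GL chevF4.Idx F) * x * (g : GL chevF4.Idx F)⁻¹ ∈ chevF4.rootSubgroup F 47 := fun g hg x hx => by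
    obtain ⟨t, rfl⟩ := (mem_rootSubgroup_iff hD 47 x).1 hx
    exact mem_subgroupOf.1 (conj_mem (X := Z0 F) hg (xe_mem_XX hD 47 t))
  have h1 := H82.RootCent.mem_sup_of_normalizer hD (S2178.datLong F) g.2
    (H82.RootCent.mem_normalizer_of (k g hg) fun x hx => by
      have := k g⁻¹ (inv_mem hg) x hx
      rwa [coe_inv, inv_inv] at this)
  have h2 : H82.RootCent.M F chevF4 [14, 20, 22] ⊔ chevF4.diagonalSubgroup F ≤ chevF4.parabolicSubgroup F {0, 1, 2} := by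
    rw [S1047.result chevF4 hD]
    refine sup_le ((H82.RootCent.M_le_iff hD _).2 ⟨fun s hs c => ?_, fun s hs c => ?_⟩) le_sup_left
    · exact mem_sup_right (subset_closure ⟨s, c, Or.inl hs, rfl⟩)
    · have k : s ∈ rL := (by decide : ∀ s ∈ [14, 20, 22], s ∈ rL) s hs
      exact mem_sup_right (subset_closure ⟨s, c, Or.inr ((inJ s).2 ⟨ltL s k, ((tabQ s (ltL s k)).2.1).2 k⟩), rfl⟩)
  exact mem_Q0.2 (conj_mem ((S1048.result chevF4 hD _).1 (h2 h1)) (mem_Q0.1 hy))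

section two

variable [CharP F 2]

theorem comm_nil {r s : ℕ} (hr : r < 48) (hs : s < 48) (h : s = r ∨ (s ≠ r ∧ s ≠ chevF4.neg r ∧ ct2 chevF4 r s = []))
    (t u : F) : xe hD s u * xe hD r t = xe hD r t * xe hD s u := by
  rcases h with rfl | ⟨h1, h2, h3⟩
  · rw [← xe_add, ← xe_add, add_comm]
  · exact H934.HeisF4Even.comm2_nil hD hr hs h1 h2 h3 t u

theorem cent_gen {l : List ℕ} {r : ℕ} (hr : r < 48)
    (h : ∀ s ∈ l, s < 48 ∧ (s = r ∨ (s ≠ r ∧ s ≠ chevF4.neg r ∧ ct2 chevF4 r s = []))) (t : F) :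
    xe hD r t ∈ centralizer (gen F l : Set (SS F)) := fun _ hy =>
  mem_centralizer_singleton_iff.1 (gen_le (Y := centralizer {xe hD r t})
    (fun s hs u => mem_centralizer_singleton_iff.2 (comm_nil hr (h s hs).1 (h s hs).2 t u)) hy)

/-- the roots of the centre of `Q` -/
def rE : List ℕ := [29, 36, 38, 39, 40, 44, 47]

theorem tabE : ∀ r ∈ rE, r ∈ rQ ∧ ∀ s ∈ rQ, s < 48 ∧ (s = r ∨ (s ≠ r ∧ s ≠ chevF4.neg r ∧ ct2 chevF4 r s = [])) := by
  decide +kernel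

theorem xe_mem_Zc {r : ℕ} (hr : r ∈ rE) (t : F) : xe hD r t ∈ Zc (Q0 F) :=
  ⟨xe_mem_gen (tabE r hr).1 t, cent_gen (ltQ r (tabE r hr).1).2 (tabE r hr).2 t⟩

theorem tabL : ∀ s ∈ rL, (s ≠ 47 ∧ s ≠ chevF4.neg 47 ∧ ct2 chevF4 47 s = []) ∧
    s ≠ 0 ∧ s ≠ chevF4.neg 0 ∧ ct2 chevF4 0 s = [] := by decide +kernel

theorem xe_mem_L0 {s : ℕ} (hs : s ∈ rL) (u : F) : xe hD s u ∈ L0 F := (mem_L0 _).2 ⟨fun z hz => by
  obtain ⟨t, rfl⟩ := (mem_XX hD).1 hz
  exact comm_nil (by norm_num) (ltL s hs) (Or.inr (tabL s hs).1) t u, fun z hz => by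
  obtain ⟨t, rfl⟩ := (mem_XX hD).1 hz
  exact comm_nil (by norm_num) (ltL s hs) (Or.inr (tabL s hs).2) t u⟩

theorem tabC : ∀ r ∈ rQ, ∀ s ∈ rQ, s = r ∨ (s ≠ r ∧ s ≠ chevF4.neg r ∧ ∀ c ∈ ct2 chevF4 r s, c.1 = 47) := by
  decide +kernel

theorem Z0_le : Z0 F ≤ Zc (Q0 F) := fun z hz => by
  obtain ⟨t, rfl⟩ := (mem_XX hD).1 hz
  exact xe_mem_Zc (by decide) t

theorem com_Q0 : ⁅Q0 F, Q0 F⁆ ≤ Z0 F := by
  have hc : ∀ y ∈ Q0 F, ∀ z ∈ Z0 F, y * z * y⁻¹ = z := fun y hy z hz => conj_of_comm ((Z0_le hz).2 y hy)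
  rw [commutator_le]
  intro x hx y hy
  refine closure_induction₂ (p := fun x y _ _ => ⁅x, y⁆ ∈ Z0 F) ?_ ?_ ?_ ?_ ?_ ?_ ?_ hx hy
  · rintro _ _ ⟨s, hs, u, rfl⟩ ⟨r, hr, t, rfl⟩
    rcases tabC r hr s hs with rfl | ⟨h1, h2, h3⟩
    · rw [commutatorElement_eq_one_iff_mul_comm.2 (comm_nil (ltQ s hs).2 (ltQ s hs).2 (Or.inl rfl) t u)]
      exact one_mem _
    · have k := H934.HeisF4Even.comm2 hD (ltQ r hr).2 (ltQ s hs).2 h1 h2 t u
      have k2 : ((ct2 chevF4 r s).map fun c => xe hD c.1 (t ^ c.2.1 * u ^ c.2.2)).prod ∈ Z0 F :=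
        Subgroup.list_prod_mem _ fun z hz => by
          obtain ⟨c, hc, rfl⟩ := List.mem_map.1 hz
          rw [h3 c hc]
          exact xe_mem_XX hD 47 _
      have k3 : xe hD s u * xe hD r t = xe hD r t * xe hD s u *
        ((ct2 chevF4 r s).map fun c => xe hD c.1 (t ^ c.2.1 * u ^ c.2.2)).prod := k
      rw [commutatorElement_def, k3, mul_assoc _ (xe hD s u)⁻¹, ← mul_inv_rev,
        hc _ (mul_mem (xe_mem_gen hr t) (xe_mem_gen hs u)) _ k2]
      exact k2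
  · intro x _
    rw [commutatorElement_one_left]
    exact one_mem _
  · intro x _
    rw [commutatorElement_one_right]
    exact one_mem _
  · intro x y z hx _ _ h1 h2
    rw [show ⁅x * y, z⁆ = x * ⁅y, z⁆ * x⁻¹ * ⁅x, z⁆ by simp only [commutatorElement_def]; group, hc x hx _ h2]
    exact mul_mem h2 h1
  · intro y z x hy _ _ h1 h2
    rw [show ⁅x, y * z⁆ = ⁅x, y⁆ * (y * ⁅x, z⁆ * y⁻¹) by simp only [commutatorElement_def]; group, hc y hy _ h2]
    exact mul_mem h1 h2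
  · intro x y hx _ h
    rw [show ⁅x⁻¹, y⁆ = x⁻¹ * ⁅x, y⁆⁻¹ * x⁻¹⁻¹ by simp only [commutatorElement_def]; group,
      hc _ (inv_mem hx) _ (inv_mem h)]
    exact inv_mem h
  · intro x y _ hy h
    rw [show ⁅x, y⁻¹⁆ = y⁻¹ * ⁅x, y⁆⁻¹ * y⁻¹⁻¹ by simp only [commutatorElement_def]; group,
      hc _ (inv_mem hy) _ (inv_mem h)]
    exact inv_mem h

end two

theorem boxU : BoxU := fun F _ _ _ =>
  have := fin_SS (F := F)
  { cardZ := (card_XX (by norm_num)).trans Nat.card_eq_fintype_card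
    cardQ := card_Q0
    ZQ := Z0_le.trans inf_le_left
    comQ := com_Q0
    cardC := (le_card_gen (l := rE) (by decide) (by decide)).trans (card_le_of_le (gen_le fun _ => xe_mem_Zc))
    nQ := fun _ hg _ => norm_Q0 hg }

theorem mix [Fintype F] [CharP F 2] {γ : MulAut (SS F)} (h : IsGraph γ) :
    ∃ D ≤ Q0 F, Fintype.card F ^ 11 ≤ Nat.card D ∧ ∃ g, ∀ d ∈ D, γ (g * d * g⁻¹) ∈ Zc (Q0 F) ⊔ L0 F ⊔ Zm0 F := by
  have k : ∀ r ∈ [24, 26, 29, 31, 32, 42, 43, 44, 45, 46, 47], r ∈ rQ ∧ (bar r ∈ rE ∨ bar r ∈ rL) := by decide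
  refine ⟨gen F [24, 26, 29, 31, 32, 42, 43, 44, 45, 46, 47], gen_le fun r hr t => xe_mem_gen (k r hr).1 t,
    le_card_gen (l := [24, 26, 29, 31, 32, 42, 43, 44, 45, 46, 47]) (by decide) (by decide), 1, fun d hd => ?_⟩
  rw [one_mul, inv_one, mul_one]
  refine gen_le (Y := (Zc (Q0 F) ⊔ L0 F ⊔ Zm0 F).comap γ.toMonoidHom) (fun r hr t => ?_) hd
  show γ (xe hD r t) ∈ Zc (Q0 F) ⊔ L0 F ⊔ Zm0 F
  rw [h r (ltQ r (k r hr).1).2]
  exact mem_sup_left ((k r hr).2.elim (fun j => mem_sup_left (xe_mem_Zc j _)) fun j => mem_sup_right (xe_mem_L0 j _))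

theorem datF4 : S2186.Dat chevF4 [[3], [1, 2, 3]] where
  hU := by decide +kernel
  hN := by decide +kernel
  hW := by decide +kernel

theorem map_XX (g : SS F) (r : ℕ) : (XX chevF4 F r).map (MulAut.conj g).toMonoidHom =
    ((chevF4.rootSubgroup F r).map (MulAut.conj (g : GL chevF4.Idx F)).toMonoidHom).subgroupOf _ := by
  refine le_antisymm ?_ ?_
  · rintro _ ⟨x, hx, rfl⟩
    exact ⟨x, hx, rfl⟩
  · rintro y ⟨x, hx, e⟩
    obtain ⟨t, rfl⟩ := (mem_rootSubgroup_iff hD r x).1 hx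
    exact ⟨xe hD r t, xe_mem_XX hD r t, Subtype.ext e⟩

theorem opp [Fintype F] [CharP F 2] (g : SS F) (h : ¬ IsPGroup 2 ↥(Z0 F ⊔ (Z0 F).map (MulAut.conj g).toMonoidHom)) :
    ∃ p ∈ normalizer (Z0 F : Set (SS F)), (Z0 F).map (MulAut.conj (p * g)).toMonoidHom = Zm0 F := by
  have := fin_SS (F := F)
  obtain ⟨b, hb, n, hn, b', hb', e⟩ := S1100.exists_bruhat hD g.2
  obtain ⟨w, hw, hact⟩ := BruhatSplit.exists_acts hD hn
  have hwr := RootWord.wact_lt (RootComb.good_of_mem hD) hw (show 47 < chevF4.nroots by decide)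
  have hbG : b ∈ chevF4.group F := (S1043.result (F := F) chevF4 hD).1 hb
  have e0 : ∀ {b : GL chevF4.Idx F}, b ∈ chevF4.borelSubgroup F →
      (chevF4.rootSubgroup F 47).map (MulAut.conj b).toMonoidHom = chevF4.rootSubgroup F 47 := fun hb =>
    S2186.borel_conj hD datF4 hb
  have e1 : (Z0 F).map (MulAut.conj ((⟨b, hbG⟩ : SS F)⁻¹ * g)).toMonoidHom = XX chevF4 F (RootWord.wact chevF4 w 47) := by
    rw [map_XX, coe_mul, coe_inv, e, show (b⁻¹ * (b * n * b') : GL chevF4.Idx F) = n * b' by group, BruhatSplit.map_conj_mul,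
      e0 hb', hact _ (by decide)]
  have e2 : (Z0 F).map (MulAut.conj (⟨b, hbG⟩ : SS F)⁻¹).toMonoidHom = Z0 F := by
    rw [map_XX, coe_inv, e0 (inv_mem hb)]
  have hp : (⟨b, hbG⟩ : SS F)⁻¹ ∈ normalizer (Z0 F : Set (SS F)) := mem_norm fun x hx => e2.le ⟨x, hx, rfl⟩
  by_cases h0 : RootWord.wact chevF4 w 47 = 0
  · exact ⟨_, hp, by rw [e1, h0]⟩
  · refine absurd (S2186.isPGroup_of_conj (⟨b, hbG⟩ : SS F)⁻¹
      (S2186.isPGroup_pair (F := F) hD datF4 hwr h0).comap_subtype ?_) h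
    rw [Subgroup.map_sup, e2, map_conj_mul, e1]
    exact sup_le (comap_mono le_sup_left) (comap_mono le_sup_right)

end Cfsg.Agent.SM.F4
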