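import Cfsg.Agent.SM.F4.Rig
import Cfsg.Agent.SM.F4.Uni
import Cfsg.Agent.SM.F4L.Inv

/-!
# SM (S3570), the row `³D₄(q) < F₄(q)`: rigidity, unconditionally (helper37)
-/

set_option autoImplicit false
set_option linter.unusedSectionVars false

namespace Cfsg.Agent.SM.F4

open Cfsg Cfsg.Lie Subgroup Equiv MulAction
open scoped MatrixGroups

theorem boxF : BoxF := fun F _ _ _ γ h => ⟨F4L.inv F γ h, opp, mix h⟩

/-- **Rigidity**: two overgroups with socle `F₄(2 ^ a)`, whose point stabilisers are of type `Sp₈`, of the same primitive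
group with socle `³D₄(2 ^ a)` coincide -/
theorem rig {Ω : Type} [Fintype Ω] [DecidableEq Ω] {X H T M₁ S₁ M₂ S₂ : Subgroup (Perm Ω)} {F K : Type} [Field F]
    [Fintype F] [Field K] [Fintype K] {a : ℕ} (ha : 1 ≤ a) (hF : Fintype.card F = 2 ^ a)
    (hK : Fintype.card K = (2 ^ a) ^ 3) (u₁ : Up X H T M₁ S₁) (u₂ : Up X H T M₂ S₂) (φ₁ : S₁ ≃* chevF4.group F)
    (φ₂ : S₂ ≃* chevF4.group F) (e : T ≃* twistedD4 K (2 ^ a)) {x : Ω} (r₁ : Row F S₁ x) (r₂ : Row F S₂ x) : M₁ = M₂ :=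
  rig_of boxU F4L.boxL boxF ha hF hK u₁ u₂ φ₁ φ₂ e r₁ r₂

end Cfsg.Agent.SM.F4
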