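import Mathlib.LinearAlgebra.SymplecticGroup
import Mathlib.GroupTheory.PGroup
import Mathlib.GroupTheory.Commutator.Basic
import Mathlib.GroupTheory.Subgroup.Centralizer

/-!
# SM (S3570), the row `³D₄(q) < F₄(q)`, `q` even: the local structure of `F₄(q)` at a long root group (helper37)

`Z = X_θ`, `Zm = X_{-θ}`, `Q = O₂(C(Z)) = q^(1+6+8)`, `L = C(Z, Zm) = Sp₆(q)`, `γ` a graph automorphism.
-/

set_option autoImplicit false

namespace Cfsg.Agent.SM.F4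

open Subgroup
open scoped commutatorElement

/-- the centre of `Q`, as a subgroup of the ambient group -/
abbrev Zc {S : Type} [Group S] (Q : Subgroup S) : Subgroup S := Q ⊓ centralizer (Q : Set S)

/-- the unipotent part -/
structure LocU (q : ℕ) {S : Type} [Group S] (Z Q : Subgroup S) : Prop where
  cardZ : Nat.card Z = q
  cardQ : Nat.card Q = q ^ 15
  ZQ : Z ≤ Q
  comQ : ⁅Q, Q⁆ ≤ Z
  cardC : q ^ 7 ≤ Nat.card (Zc Q)
  nQ : ∀ g ∈ normalizer (Z : Set S), ∀ y ∈ Q, g * y * g⁻¹ ∈ Q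

/-- the Levi part -/
structure LocL (F : Type) [Field F] {S : Type} [Group S] (Z Zm Q L : Subgroup S) : Prop where
  cenL : ∀ g, g ∈ L ↔ (∀ z ∈ Z, g * z = z * g) ∧ ∀ z ∈ Zm, g * z = z * g
  isoL : Nonempty (L ≃* Matrix.symplecticGroup (Fin 3) F)
  cz : ∀ z ∈ Z, z ≠ 1 → centralizer {z} = Q ⊔ L
  QL : Q ⊓ L = ⊥

/-- the fusion part -/
structure LocF (q : ℕ) {S : Type} [Group S] (Z Zm Q L : Subgroup S) (γ : MulAut S) : Prop where
  inv : ∀ (x : S) (r : ℕ), x * x = 1 → x ≠ 1 → r.Prime → r ∣ q ^ 2 + q + 1 → r ≠ 3 →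
    r ∣ Nat.card (centralizer ({x} : Set S)) → ∃ g, g * x * g⁻¹ ∈ Z ∨ γ (g * x * g⁻¹) ∈ Z
  opp : ∀ g, ¬ IsPGroup 2 ↥(Z ⊔ Z.map (MulAut.conj g).toMonoidHom) →
    ∃ p ∈ normalizer (Z : Set S), Z.map (MulAut.conj (p * g)).toMonoidHom = Zm
  mix : ∃ D ≤ Q, q ^ 11 ≤ Nat.card D ∧ ∃ g, ∀ d ∈ D, γ (g * d * g⁻¹) ∈ Zc Q ⊔ L ⊔ Zm

end Cfsg.Agent.SM.F4
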