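import Cfsg.Agent.SM.F4.TT

/-!
# SM (S3570), the row `³D₄(q) < F₄(q)`: the subgroups `Sp₈(q)`, and the extension of the automorphisms of `T` (helper37)
-/

set_option autoImplicit false
set_option linter.unusedSectionVars false

namespace Cfsg.Agent.SM.F4

open Subgroup
open scoped commutatorElement MatrixGroups Pointwise

/-- the local data of a subgroup `N ≅ Sp₈(q)` -/
structure LN (F : Type) [Field F] (q : ℕ) {S : Type} [Group S] (N Z Zm R L : Subgroup S) : Prop where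
  cardZ : Nat.card Z = q
  cardR : Nat.card R = q ^ 7
  ZR : Z ≤ R
  sqZ : ∀ z ∈ Z, z * z = 1
  comR : ∀ y ∈ R, ∀ z ∈ R, y * z = z * y
  nR : ∀ l ∈ L, ∀ y ∈ R, l * y * l⁻¹ ∈ R
  cenL : ∀ g ∈ L, (∀ z ∈ Z, g * z = z * g) ∧ ∀ z ∈ Zm, g * z = z * g
  fixR : ∀ g ∈ R, (∀ l ∈ L, g * l = l * g) → g ∈ Z
  isoL : Nonempty (L ≃* Matrix.symplecticGroup (Fin 3) F)
  le : L ≤ N
  gen : R ⊔ Zm = N
  w : ∃ w, Z.map (MulAut.conj w).toMonoidHom = Zm
  nP : ¬ IsPGroup 2 ↥(Z ⊔ Zm)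

theorem LN.map {F : Type} [Field F] {q : ℕ} {S S' : Type} [Group S] [Group S'] {N Z Zm R L : Subgroup S}
    (t : LN F q N Z Zm R L) {f : S →* S'} (hf : Function.Injective f) :
    LN F q (N.map f) (Z.map f) (Zm.map f) (R.map f) (L.map f) where
  cardZ := (card_map_eq hf Z).trans t.cardZ
  cardR := (card_map_eq hf R).trans t.cardR
  ZR := map_mono t.ZR
  sqZ := by
    rintro _ ⟨z, hz, rfl⟩
    rw [← map_mul, t.sqZ z hz, map_one]
  comR := by
    rintro _ ⟨y, hy, rfl⟩ _ ⟨z, hz, rfl⟩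
    rw [← map_mul, ← map_mul, t.comR y hy z hz]
  nR := by
    rintro _ ⟨a, ha, rfl⟩ _ ⟨y, hy, rfl⟩
    exact ⟨_, t.nR a ha y hy, by rw [map_mul, map_mul, map_inv]⟩
  cenL := by
    rintro _ ⟨g, hg, rfl⟩
    exact ⟨fun _ ⟨y, hy, e⟩ => by rw [← e, ← map_mul, ← map_mul, (t.cenL g hg).1 y hy],
      fun _ ⟨y, hy, e⟩ => by rw [← e, ← map_mul, ← map_mul, (t.cenL g hg).2 y hy]⟩
  fixR := by
    rintro _ ⟨g, hg, rfl⟩ h
    exact ⟨g, t.fixR g hg fun y hy => hf (by rw [map_mul, map_mul]; exact h _ ⟨y, hy, rfl⟩), rfl⟩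
  isoL := ⟨(L.equivMapOfInjective f hf).symm.trans t.isoL.some⟩
  le := map_mono t.le
  gen := by rw [← Subgroup.map_sup, t.gen]
  w := by
    obtain ⟨w, hw⟩ := t.w
    refine ⟨f w, ?_⟩
    rw [← hw, map_map, map_map]
    congr 1
    ext x
    simp
  nP := fun h => t.nP (by
    rw [← Subgroup.map_sup] at h
    exact h.of_equiv ((Z ⊔ Zm).equivMapOfInjective f hf).symm)

/-- the facts on `Sp₆(F)` -/
structure Six (F : Type) [Field F] (q : ℕ) : Prop where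
  simple : IsSimpleGroup (Matrix.symplecticGroup (Fin 3) F)
  nab : ¬ IsMulCommutative (Matrix.symplecticGroup (Fin 3) F)
  dvd : q ^ 2 + q + 1 ∣ Nat.card (Matrix.symplecticGroup (Fin 3) F)

theorem not_isPGroup {G : Type} [Group G] [Finite G] (hs : IsSimpleGroup G) (hn : ¬ IsMulCommutative G) :
    ¬ IsPGroup 2 G := fun h => by
  rcases (inferInstance : (center G).Normal).eq_bot_or_eq_top with e | e
  · have := h.center_nontrivial
    rw [e] at this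
    exact not_nontrivial _ this
  · exact hn ⟨⟨fun a b => (mem_center_iff.1 (e ▸ mem_top b : b ∈ center G) a)⟩⟩

section

variable {F K : Type} [Field F] [Field K] {S : Type} [Group S] [Finite S] {a : ℕ} {Z Zm Q L : Subgroup S} {γ : MulAut S}
  {T N Z' Zm' R L' : Subgroup S}

theorem Six.inf {q : ℕ} (h : Six F q) (e : Nonempty (L ≃* Matrix.symplecticGroup (Fin 3) F)) {Y : Subgroup S}
    (hY : IsPGroup 2 Y) (hn : ∀ a ∈ L, ∀ y ∈ Y, a * y * a⁻¹ ∈ Y) : Y ⊓ L = ⊥ := by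
  have hs : IsSimpleGroup L := e.some.isSimpleGroup_congr.2 h.simple
  refine (inf_or_le hs hn).resolve_right fun k => ?_
  have : Finite (Matrix.symplecticGroup (Fin 3) F) := Finite.of_equiv _ e.some.toEquiv
  exact not_isPGroup h.simple h.nab ((hY.to_le k).of_equiv e.some)

theorem ZC {q : ℕ} (U : LocU q Z Q) (V : LocL F Z Zm Q L) : Z ≤ Zc Q := fun _ hz =>
  ⟨U.ZQ hz, fun _ hy => V.cent (mem_sup_left hy) hz⟩

theorem conj_Zc {g : S} (h : ∀ y ∈ Q, g * y * g⁻¹ ∈ Q) : ∀ y ∈ Zc Q, g * y * g⁻¹ ∈ Zc Q := fun y hy =>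
  ⟨h y hy.1, fun x hx => by
    have h1 := hy.2 _ (conj_mem (inv_mem (mem_norm h)) hx)
    calc x * (g * y * g⁻¹) = g * (g⁻¹ * x * g⁻¹⁻¹ * y) * g⁻¹ := by group
      _ = _ := by rw [h1]; group⟩

theorem LN.eq (ha : 1 ≤ a) (h6 : Six F (2 ^ a)) (U : LocU (2 ^ a) Z Q) (V : LocL F Z Zm Q L) (s : Std K (2 ^ a) Z Zm Q T)
    (n : LN F (2 ^ a) N Z' Zm' R L') {z : S} (hz : z ∈ Z) (hz' : z ∈ Z') (h1 : z ≠ 1) : R = Zc Q ∧ Z' = Z := by
  obtain ⟨Q', A, t, hQ'⟩ := s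
  have q2 := two_le ha
  have hR : R ≤ Q ⊔ L := fun y hy => V.mem hz h1 (n.comR y hy z (n.ZR hz'))
  have hL : L' ≤ Q ⊔ L := fun y hy => V.mem hz h1 ((n.cenL y hy).1 z hz')
  have hN : ∀ g ∈ Q ⊔ L, ∀ y ∈ Q, g * y * g⁻¹ ∈ Q := fun g hg => U.nQ g (V.normZ hg)
  have c1 : Nat.card L' = Nat.card L := Nat.card_congr (n.isoL.some.trans V.isoL.some.symm).toEquiv
  have c2 := card_sup_mul (K := Q) (H := L) fun g hg => mem_norm (hN g (mem_sup_right hg))
  rw [V.QL, card_bot, mul_one] at c2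
  have c3 := card_sup_mul (K := Q) (H := L') fun g hg => mem_norm (hN g (hL hg))
  rw [h6.inf n.isoL (isP U.cardQ) fun g hg => hN g (hL hg), card_bot, mul_one, c1, ← c2] at c3
  have e1 : Q ⊔ L' = Q ⊔ L := eq_of_le_of_card_ge (sup_le le_sup_left hL) c3.ge
  have hP : IsPGroup 2 ↥(Q ⊔ R) := by
    rw [sup_comm]
    exact IsPGroup.to_sup_of_normal_right' (isP n.cardR) (isP U.cardQ) fun g hg => mem_norm (hN g (hR hg))
  have hY : ∀ g ∈ L', ∀ y ∈ Q ⊔ R, g * y * g⁻¹ ∈ Q ⊔ R := fun g hg => conj_sup (hN g (hL hg)) (n.nR g hg)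
  have c4 := card_sup_mul (K := Q ⊔ R) (H := L') fun g hg => mem_norm (hY g hg)
  rw [h6.inf n.isoL hP hY, card_bot, mul_one, c1] at c4
  have c5 : Nat.card ↥(Q ⊔ R) ≤ Nat.card Q := by
    refine Nat.le_of_mul_le_mul_right (c := Nat.card L) ?_ Nat.card_pos
    rw [← c4, ← c2]
    exact card_le_of_le (sup_le (sup_le le_sup_left hR) hL)
  have hRQ : R ≤ Q := le_sup_right.trans (eq_of_le_of_card_ge (le_sup_left : Q ≤ Q ⊔ R) c5).ge
  have hC : Q' ⊓ Zc Q ≤ Z := fun y hy => (t.cenQ y hy.1).1 fun x hx => (hy.2.2 x (hQ' hx)).symm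
  have c6 : Nat.card ↥(Q' ⊓ Zc Q) ≤ 2 ^ a := U.cardZ ▸ card_le_of_le hC
  have c7 : Nat.card (Zc Q) ≤ (2 ^ a) ^ 7 := by
    have k := card_mul_card_le hQ' (inf_le_left : Zc Q ≤ Q)
    rw [t.cardQ, U.cardQ] at k
    refine Nat.le_of_mul_le_mul_left (c := (2 ^ a) ^ 9) (k.trans ?_) (by positivity)
    calc (2 ^ a) ^ 15 * Nat.card ↥(Q' ⊓ Zc Q) ≤ (2 ^ a) ^ 15 * 2 ^ a := Nat.mul_le_mul_left _ c6
      _ = _ := by ring
  have hYQ : Zc Q ⊔ R ≤ Q := sup_le inf_le_left hRQ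
  have hA : ∀ g ∈ A, ∀ y ∈ Zc Q ⊔ R, g * y * g⁻¹ ∈ Zc Q ⊔ R := fun g hg y hy => by
    obtain ⟨u, hu, l, hl, rfl⟩ := mem_sup_norm (K := Q) (H := L') (fun g hg => mem_norm (hN g (hL hg)))
      (e1.symm ▸ mem_sup_right (t.AL V hg))
    have k1 := conj_sup (conj_Zc (hN l (hL hl))) (n.nR l hl) y hy
    have k2 : ⁅u, l * y * l⁻¹⁆ ∈ Z := U.comQ (commutator_mem_commutator hu (hYQ k1))
    rw [show u * l * y * (u * l)⁻¹ = ⁅u, l * y * l⁻¹⁆ * (l * y * l⁻¹) by rw [commutatorElement_def]; group]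
    exact mul_mem (mem_sup_left (ZC U V k2)) k1
  have e2 : R = Zc Q := by
    rcases t.irr (Q' ⊓ (Zc Q ⊔ R)) (le_inf t.ZQ ((ZC U V).trans le_sup_left)) inf_le_left
      (fun g hg y hy => ⟨t.nQ g hg y hy.1, hA g hg y hy.2⟩) with e | e
    · have k := card_mul_card_le hQ' hYQ
      rw [e, t.cardQ, U.cardQ, U.cardZ] at k
      have k2 : Nat.card ↥(Zc Q ⊔ R) ≤ (2 ^ a) ^ 7 :=
        Nat.le_of_mul_le_mul_left (c := (2 ^ a) ^ 9) (k.trans (le_of_eq (by ring))) (by positivity)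
      exact (eq_of_le_of_card_ge (le_sup_right : R ≤ Zc Q ⊔ R) (n.cardR ▸ k2)).trans
        (eq_of_le_of_card_ge (le_sup_left : Zc Q ≤ Zc Q ⊔ R) (k2.trans U.cardC)).symm
    · exfalso
      have k := card_mul_card_le (inf_eq_left.1 e) (le_sup_left : Zc Q ≤ Zc Q ⊔ R)
      have k2 := card_sup_mul (K := Zc Q) (H := R) fun g hg => mem_norm (conj_Zc (hN g (hR hg)))
      have k3 : Nat.card ↥(Zc Q ⊔ R) ≤ (2 ^ a) ^ 7 * (2 ^ a) ^ 7 := by
        calc _ ≤ Nat.card ↥(Zc Q ⊔ R) * Nat.card ↥(Zc Q ⊓ R) := Nat.le_mul_of_pos_right _ Nat.card_pos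
          _ = _ := k2
          _ ≤ _ := Nat.mul_le_mul c7 n.cardR.le
      have k4 : (2 ^ a) ^ 9 * (2 ^ a) ^ 7 ≤ (2 ^ a) ^ 7 * (2 ^ a) ^ 7 * 2 ^ a :=
        (Nat.mul_le_mul t.cardQ.ge U.cardC).trans (k.trans (Nat.mul_le_mul k3 c6))
      rw [← pow_add, ← pow_add, ← pow_succ, Nat.pow_le_pow_iff_right q2] at k4
      omega
  refine ⟨e2, (eq_of_le_of_card_ge (fun y hy => n.fixR y (e2 ▸ ZC U V hy) fun l hl => (V.cent (hL hl) hy).symm) ?_).symm⟩
  rw [n.cardZ, U.cardZ]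

/-- **one class** -/
theorem LN.std (ha : 1 ≤ a) (h6 : Six F (2 ^ a)) (U : LocU (2 ^ a) Z Q) (V : LocL F Z Zm Q L)
    (W : LocF (2 ^ a) Z Zm Q L γ) (s : Std K (2 ^ a) Z Zm Q T)
    (n : LN F (2 ^ a) N Z' Zm' R L') {z : S} (hz : z ∈ Z) (hz' : z ∈ Z') (h1 : z ≠ 1) :
    ∃ p, N.map (MulAut.conj p).toMonoidHom = Zc Q ⊔ L ⊔ Zm := by
  obtain ⟨-, rfl⟩ := n.eq ha h6 U V s hz hz' h1
  obtain ⟨w, hw⟩ := n.w
  obtain ⟨p, hp, e⟩ := W.opp w (hw.symm ▸ n.nP)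
  have n' := n.map (f := (MulAut.conj p).toMonoidHom) (MulAut.conj p).injective
  rw [map_conj_eq hp, ← hw, map_conj_mul, e] at n'
  have e1 := (n'.eq ha h6 U V s hz hz h1).1
  have e2 : L'.map (MulAut.conj p).toMonoidHom = L := eq_of_le_of_card_ge (fun g hg => (V.cenL g).2 (n'.cenL g hg))
    (Nat.card_congr (V.isoL.some.trans n'.isoL.some.symm).toEquiv).le
  refine ⟨p, le_antisymm ?_ (sup_le (sup_le ?_ (e2 ▸ n'.le)) ?_)⟩
  · rw [← n'.gen, e1]
    exact sup_le_sup_right le_sup_left _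
  · rw [← n'.gen, e1]
    exact le_sup_left
  · rw [← n'.gen]
    exact le_sup_right

theorem cenB {q : ℕ} (h6 : Six F q) (U : LocU q Z Q) (V : LocL F Z Zm Q L) {g : S}
    (h : ∀ x ∈ Zc Q ⊔ L ⊔ Zm, g * x = x * g) : g = 1 := by
  have h1 : g ∈ L := (V.cenL g).2 ⟨fun z hz => h z (mem_sup_left (mem_sup_left (ZC U V hz))),
    fun z hz => h z (mem_sup_right hz)⟩
  obtain ⟨e⟩ := V.isoL
  have hs := h6.simple
  have h2 : e ⟨g, h1⟩ ∈ center _ := mem_center_iff.2 fun y => by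
    obtain ⟨y, rfl⟩ := e.surjective y
    rw [← map_mul, ← map_mul]
    exact congrArg e (Subtype.ext (h y (mem_sup_left (mem_sup_right y.2))).symm)
  rcases (inferInstance : (center (Matrix.symplecticGroup (Fin 3) F)).Normal).eq_bot_or_eq_top with k | k
  · rw [k, mem_bot, map_eq_one_iff _ e.injective] at h2
    exact congrArg Subtype.val h2
  · exact absurd ⟨⟨fun a b => (mem_center_iff.1 (k ▸ mem_top b : b ∈ center _) a)⟩⟩ h6.nab

/-- a prime divisor of `q² + q + 1` other than `3` -/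
theorem exists_prime {q : ℕ} (hq : 2 ≤ q) : ∃ r, r.Prime ∧ r ∣ q ^ 2 + q + 1 ∧ r ≠ 3 := by
  by_contra hc
  push Not at hc
  obtain ⟨k, hk⟩ : ∃ k, q ^ 2 + q + 1 = 3 ^ k :=
    ⟨_, Nat.eq_prime_pow_of_unique_prime_dvd (by omega) fun h1 h2 => hc _ h1 h2⟩
  have h1 : 7 ≤ 3 ^ k := by nlinarith
  obtain ⟨j, rfl⟩ : ∃ j, k = j + 2 := by
    rcases k with _ | _ | k
    · omega
    · omega
    · exact ⟨k, rfl⟩
  have h2 : (q ^ 2 + q + 1) % 9 = 0 := by rw [hk, pow_add]; omega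
  have h3 : ∀ x < 9, (x ^ 2 + x + 1) % 9 ≠ 0 := by decide
  refine h3 (q % 9) (Nat.mod_lt _ (by norm_num)) ?_
  rw [← h2]
  exact ((((Nat.mod_modEq q 9).pow 2).add (Nat.mod_modEq q 9)).add_right 1)

/-- the two types: an automorphism `conj g` or `conj g * γ` carries a given involution into `Z` -/
theorem LocF.two {q : ℕ} (hq : 2 ≤ q) (W : LocF q Z Zm Q L γ) {z : S} (h2 : z * z = 1) (h1 : z ≠ 1) {Y : Subgroup S}
    (hY : ∀ y ∈ Y, y * z = z * y) (hd : q ^ 2 + q + 1 ∣ Nat.card Y) :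
    ∃ g, g * z * g⁻¹ ∈ Z ∨ γ (g * z * g⁻¹) ∈ Z := by
  obtain ⟨r, hr, h3, h4⟩ := exists_prime hq
  exact W.inv z r h2 h1 hr h3 h4 (h3.trans (hd.trans (card_dvd_of_le fun y hy =>
    mem_centralizer_singleton_iff.2 (hY y hy))))

theorem smul_eq (τ : MulAut S) (X : Subgroup S) : τ • X = X.map τ.toMonoidHom := rfl

theorem conj_gam (p g : S) : MulAut.conj p * (γ * MulAut.conj g) = MulAut.conj (p * γ g) * γ := by
  ext x
  simp [mul_assoc]

/-- the subgroups `Sp₈(q)` -/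
theorem LN.two (ha : 1 ≤ a) (h6 : Six F (2 ^ a)) (U : LocU (2 ^ a) Z Q) (V : LocL F Z Zm Q L)
    (W : LocF (2 ^ a) Z Zm Q L γ) (s : Std K (2 ^ a) Z Zm Q T) (n : LN F (2 ^ a) N Z' Zm' R L') :
    ∃ p, MulAut.conj p • N = Zc Q ⊔ L ⊔ Zm ∨ (MulAut.conj p * γ) • N = Zc Q ⊔ L ⊔ Zm := by
  obtain ⟨z, hz, h1⟩ := exists_ne (two_le ha) n.cardZ
  obtain ⟨g, h | h⟩ := W.two (two_le ha) (n.sqZ z hz) h1 (fun y hy => (n.cenL y hy).1 z hz)
    (Nat.card_congr n.isoL.some.toEquiv ▸ h6.dvd)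
  · obtain ⟨p, e⟩ := (n.map (f := (MulAut.conj g).toMonoidHom) (MulAut.conj g).injective).std ha h6 U V W s h
      ⟨z, hz, rfl⟩ fun k => h1 ((MulAut.conj g).injective (k.trans (map_one _).symm))
    exact ⟨p * g, Or.inl (by rw [map_mul, mul_smul]; exact e)⟩
  · obtain ⟨p, e⟩ := (n.map (f := (γ * MulAut.conj g).toMonoidHom) (γ * MulAut.conj g).injective).std ha h6 U V W s h
      ⟨z, hz, rfl⟩ fun k => h1 ((γ * MulAut.conj g).injective (k.trans (map_one _).symm))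
    exact ⟨p * γ g, Or.inr (by rw [← conj_gam, mul_smul]; exact e)⟩

/-- the subgroups `³D₄(q)` -/
theorem LT.two {Q' A : Subgroup S} (ha : 1 ≤ a) (U : LocU (2 ^ a) Z Q) (V : LocL F Z Zm Q L)
    (W : LocF (2 ^ a) Z Zm Q L γ) (hS : ¬ (2 ^ a) ^ 26 ∣ Nat.card S) (t : LT K (2 ^ a) T Z' Zm' Q' A) :
    ∃ p, Std K (2 ^ a) Z Zm Q (MulAut.conj p • T) ∨ Std K (2 ^ a) Z Zm Q ((MulAut.conj p * γ) • T) := by
  obtain ⟨z, hz, h1⟩ := exists_ne (two_le ha) t.cardZ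
  have hd : (2 ^ a) ^ 2 + 2 ^ a + 1 ∣ Nat.card A := by
    rw [t.cardA]
    refine Dvd.dvd.mul_left ⟨(2 ^ a - 1) * ((2 ^ a) ^ 3 + 1), ?_⟩ _
    obtain ⟨m, hm⟩ : ∃ m, 2 ^ a = m + 1 := ⟨2 ^ a - 1, by have := two_le ha; omega⟩
    rw [hm, Nat.add_sub_cancel]
    exact Nat.sub_eq_of_eq_add (by ring)
  obtain ⟨g, h | h⟩ := W.two (two_le ha) (t.sqZ z hz) h1 (fun y hy => ((t.cenA y).1 hy).2.1 z hz) hd
  · obtain ⟨p, e⟩ := (t.map (f := (MulAut.conj g).toMonoidHom) (MulAut.conj g).injective).std ha U V W hS h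
      ⟨z, hz, rfl⟩ fun k => h1 ((MulAut.conj g).injective (k.trans (map_one _).symm))
    exact ⟨p * g, Or.inl (by rw [map_mul, mul_smul]; exact e)⟩
  · obtain ⟨p, e⟩ := (t.map (f := (γ * MulAut.conj g).toMonoidHom) (γ * MulAut.conj g).injective).std ha U V W hS h
      ⟨z, hz, rfl⟩ fun k => h1 ((γ * MulAut.conj g).injective (k.trans (map_one _).symm))
    exact ⟨p * γ g, Or.inr (by rw [← conj_gam, mul_smul]; exact e)⟩

/-- **Extension by counting.** -/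
theorem extend {m : ℕ} (h2 : ∀ σ : MulAut S, ∃ p, MulAut.conj p • σ • T = T ∨ (MulAut.conj p * γ) • σ • T = T)
    (h3 : 3 * Nat.card T ≤ Nat.card (normalizer (T : Set S))) (hS : Nat.card (MulAut S) = 2 * m * Nat.card S)
    (hT : Nat.card (MulAut T) = 3 * m * Nat.card T) (inj : ∀ τ : MulAut S, (∀ t ∈ T, τ t = t) → τ = 1) (ψ : MulAut T) :
    ∃ τ : MulAut S, ∀ t : T, τ t = ψ t := by
  have fin : Finite (MulAut S) := Finite.of_injective (fun σ : MulAut S => (σ : S → S)) DFunLike.coe_injective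
  have finT : Finite (MulAut T) := Finite.of_injective (fun σ : MulAut T => (σ : T → T)) DFunLike.coe_injective
  let Φ : (S ⧸ normalizer (T : Set S)) × Bool → Subgroup S := fun c =>
    (if c.2 then γ⁻¹ else 1) • MulAut.conj c.1.out • T
  have hout : ∀ g : S, MulAut.conj (QuotientGroup.mk g : S ⧸ normalizer (T : Set S)).out • T = MulAut.conj g • T :=
    fun g => by
      obtain ⟨n, hn⟩ := QuotientGroup.mk_out_eq_mul (normalizer (T : Set S)) g
      rw [hn, map_mul, mul_smul, smul_eq (MulAut.conj (n : S)), map_conj_eq n.2]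
  have h4 : MulAction.orbit (MulAut S) T ⊆ Set.range Φ := by
    rintro _ ⟨σ, rfl⟩
    obtain ⟨p, h | h⟩ := h2 σ
    · refine ⟨(QuotientGroup.mk p⁻¹, false), ?_⟩
      show (1 : MulAut S) • _ = σ • T
      rw [one_smul, hout, map_inv, inv_smul_eq_iff, h]
    · refine ⟨(QuotientGroup.mk p⁻¹, true), ?_⟩
      show γ⁻¹ • _ = σ • T
      rw [hout, map_inv, inv_smul_eq_iff, inv_smul_eq_iff, ← mul_smul, h]
  have h5 : (MulAction.stabilizer (MulAut S) T).index ≤ (normalizer (T : Set S)).index * 2 := by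
    rw [MulAction.index_stabilizer]
    refine (Set.ncard_le_ncard h4).trans ?_
    rw [← Set.image_univ]
    refine (Set.ncard_image_le).trans ?_
    rw [Set.ncard_univ, Nat.card_prod, Nat.card_eq_fintype_card (α := Bool), Fintype.card_bool]
    rfl
  have h6 : Nat.card (MulAut T) ≤ Nat.card (MulAction.stabilizer (MulAut S) T) := by
    have k1 := (MulAction.stabilizer (MulAut S) T).card_mul_index
    have k2 := (normalizer (T : Set S)).card_mul_index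
    have k3 : 0 < (normalizer (T : Set S)).index * 2 := Nat.mul_pos (Nat.pos_of_ne_zero index_ne_zero_of_finite) two_pos
    refine Nat.le_of_mul_le_mul_right ?_ k3
    calc Nat.card (MulAut T) * ((normalizer (T : Set S)).index * 2)
        = 2 * m * (3 * Nat.card T * (normalizer (T : Set S)).index) := by rw [hT]; ring
      _ ≤ 2 * m * (Nat.card (normalizer (T : Set S)) * (normalizer (T : Set S)).index) := by gcongr
      _ = Nat.card (MulAction.stabilizer (MulAut S) T) * (MulAction.stabilizer (MulAut S) T).index := by rw [k1, k2, hS]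
      _ ≤ _ := Nat.mul_le_mul_left _ h5
  let res : MulAction.stabilizer (MulAut S) T → MulAut T := fun σ =>
    (σ.1.subgroupMap T).trans (MulEquiv.subgroupCongr σ.2)
  have hres : ∀ σ (t : T), (res σ t : S) = σ.1 t := fun _ _ => rfl
  have h7 : Function.Injective res := fun σ σ' e => Subtype.ext (by
    refine (inv_mul_eq_one.1 (inj _ fun t ht => ?_)).symm
    rw [MulAut.mul_apply, ← hres σ ⟨t, ht⟩, e, hres]
    exact σ'.1.symm_apply_apply t)
  obtain ⟨σ, rfl⟩ := (h7.bijective_of_nat_card_le h6).2 ψ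
  exact ⟨σ.1, fun t => (hres σ t).symm⟩

end

end Cfsg.Agent.SM.F4
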