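import Cfsg.Agent.SM.F4.Defs
import Cfsg.Agent.H95.DG.F4

/-!
# SM (S3570), the row `³D₄(q) < F₄(q)`, `q` even: the concrete subgroups of `F₄(F)` (helper37)
-/

set_option autoImplicit false

namespace Cfsg.Agent.SM.F4

open Cfsg Cfsg.Lie Subgroup Cfsg.Agent.H70.ChevFix

/-- the group `F₄(F)` -/
abbrev SS (F : Type) [Field F] : Type := ↥(chevF4.group F)

/-- the root group of the highest root -/
abbrev Z0 (F : Type) [Field F] : Subgroup (SS F) := XX chevF4 F 47

/-- the root group of the lowest root -/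
abbrev Zm0 (F : Type) [Field F] : Subgroup (SS F) := XX chevF4 F 0

/-- the roots `r` with `(r, θ) > 0` -/
def rQ : List ℕ := [24, 26, 29, 31, 32, 36, 38, 39, 40, 42, 43, 44, 45, 46, 47]

/-- the roots orthogonal to `θ` -/
def rL : List ℕ := [6, 10, 12, 13, 14, 17, 19, 20, 22, 25, 27, 28, 30, 33, 34, 35, 37, 41]

/-- the subgroup generated by the root groups of a list -/
def gen (F : Type) [Field F] (l : List ℕ) : Subgroup (SS F) :=
  closure {g | ∃ r ∈ l, ∃ t : F, g = xe H95.DG.F4.hD r t}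

/-- the unipotent radical -/
abbrev Q0 (F : Type) [Field F] : Subgroup (SS F) := gen F rQ

/-- the centraliser of the two root groups -/
def L0 (F : Type) [Field F] : Subgroup (SS F) := centralizer (Z0 F : Set (SS F)) ⊓ centralizer (Zm0 F : Set (SS F))

theorem xe_mem_gen {F : Type} [Field F] {l : List ℕ} {r : ℕ} (hr : r ∈ l) (t : F) : xe H95.DG.F4.hD r t ∈ gen F l :=
  subset_closure ⟨r, hr, t, rfl⟩

theorem gen_le {F : Type} [Field F] {l : List ℕ} {Y : Subgroup (SS F)} (h : ∀ r ∈ l, ∀ t : F, xe H95.DG.F4.hD r t ∈ Y) :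
    gen F l ≤ Y := (closure_le _).2 (by
  rintro _ ⟨r, hr, t, rfl⟩
  exact h r hr t)

theorem mem_L0 {F : Type} [Field F] (g : SS F) :
    g ∈ L0 F ↔ (∀ z ∈ Z0 F, g * z = z * g) ∧ ∀ z ∈ Zm0 F, g * z = z * g :=
  ⟨fun h => ⟨fun z hz => (h.1 z hz).symm, fun z hz => (h.2 z hz).symm⟩,
    fun h => ⟨fun z hz => (h.1 z hz).symm, fun z hz => (h.2 z hz).symm⟩⟩

/-- the three boxes of the concrete side -/
def BoxU : Prop := ∀ (F : Type) [Field F] [Fintype F] [CharP F 2], LocU (Fintype.card F) (Z0 F) (Q0 F)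

/-- the Levi part -/
def BoxL : Prop := ∀ (F : Type) [Field F] [Fintype F] [CharP F 2], LocL F (Z0 F) (Zm0 F) (Q0 F) (L0 F)

/-- the fusion part -/
def BoxF : Prop := ∀ (F : Type) [Field F] [Fintype F] [CharP F 2] (γ : MulAut (SS F)), H95.DG.F4.IsGraph γ →
  LocF (Fintype.card F) (Z0 F) (Zm0 F) (Q0 F) (L0 F) γ

end Cfsg.Agent.SM.F4
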