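import Cfsg.Agent.SM.F4.NN
import Cfsg.Agent.SM.F4.Obj
import Cfsg.Agent.SM.Rig
import Cfsg.Agent.SM.Mat.Tool
import Cfsg.Agent.SM.D4.Loc
import Cfsg.Agent.SM.S8.Loc
import Cfsg.Agent.H320.Kill.Pair
import Cfsg.Agent.S0242
import Cfsg.Agent.S1062
import Cfsg.Agent.S1067
import Cfsg.Agent.S2122
import Cfsg.Agent.S2129

/-!
# SM (S3570), the row `³D₄(q) < F₄(q)`: rigidity (helper37)
-/

set_option autoImplicit false
set_option linter.unusedSectionVars false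

namespace Cfsg.Agent.SM.F4

open Cfsg Cfsg.Lie Subgroup Equiv MulAction
open scoped commutatorElement MatrixGroups Pointwise

theorem card_aut {G : Type} [Group G] (hs : IsSimpleGroup G) (hn : ¬ IsMulCommutative G) :
    Nat.card (MulAut G) = Nat.card (Out G) * Nat.card G := by
  rw [card_eq_card_quotient_mul_card_subgroup (Inn G)]
  congr 1
  refine (Nat.card_congr (MonoidHom.ofInjective ?_).toEquiv).symm
  rw [injective_iff_map_eq_one]
  intro g hg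
  have h2 : g ∈ center G := mem_center_iff.2 fun y => by
    have := DFunLike.congr_fun hg y
    rw [MulAut.conj_apply, MulAut.one_apply, mul_inv_eq_iff_eq_mul] at this
    exact this.symm
  rcases (inferInstance : (center G).Normal).eq_bot_or_eq_top with k | k
  · rwa [k, mem_bot] at h2
  · exact absurd ⟨⟨fun a b => (mem_center_iff.1 (k ▸ mem_top b : b ∈ center _) a)⟩⟩ hn

theorem comm_congr {G G' : Type} [Group G] [Group G'] (e : G ≃* G') (h : IsMulCommutative G') : IsMulCommutative G :=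
  ⟨⟨fun a b => e.injective (by rw [map_mul, map_mul, h.is_comm.comm])⟩⟩

section

variable {F K : Type} [Field F] [Fintype F] [Field K] [Fintype K] {a : ℕ}

theorem charTwo (_ : 1 ≤ a) (hF : Fintype.card F = 2 ^ a) : CharP F 2 := by
  obtain ⟨p, hp⟩ := CharP.exists F
  obtain ⟨n, h1, h2⟩ := FiniteField.card F p
  have h3 : p ∣ 2 ^ a := hF ▸ h2 ▸ dvd_pow_self p n.ne_zero
  rwa [(Nat.prime_dvd_prime_iff_eq h1 Nat.prime_two).1 (h1.dvd_of_dvd_pow h3)] at hp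

theorem card_sl : Nat.card SL(2, K) = Fintype.card K * (Fintype.card K ^ 2 - 1) := by
  have h1 := S0242.result (F := K) rfl 2 (by norm_num)
  have hq : 2 ≤ Fintype.card K := Fintype.one_lt_card
  rw [Fin.prod_univ_two] at h1
  have h3 : Fintype.card K ^ 2 - Fintype.card K ^ 1 = (Fintype.card K - 1) * Fintype.card K := by
    rw [Nat.sub_mul, one_mul, pow_one, pow_two]
  simp only [Fin.val_zero, Fin.val_one, pow_zero] at h1
  rw [h3] at h1
  refine Nat.eq_of_mul_eq_mul_left (show 0 < Fintype.card K - 1 by omega) (h1.trans ?_)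
  ring

theorem exists_LT (ha : 1 ≤ a) (hK : Fintype.card K = (2 ^ a) ^ 3) {S : Type} [Group S] [Finite S] {T : Subgroup S}
    (e : T ≃* twistedD4 K (2 ^ a)) : ∃ Z Zm Q A, LT K (2 ^ a) T Z Zm Q A := by
  obtain ⟨Z, Zm, Q, A, l⟩ := D4.exists_loc ha hK e
  have c2 : CharP K 2 := charTwo (a := a * 3) (by omega) (hK.trans (pow_mul 2 a 3).symm)
  obtain ⟨X, Y, θ, h1, h2⟩ := l.isoA
  have eA : A ≃* SL(2, K) := ((MonoidHom.ofInjective h1.inj).trans (MulEquiv.subgroupCongr (h1.range.trans h2))).symm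
  have h8 : 2 ^ 3 ≤ (2 ^ a) ^ 3 := Nat.pow_le_pow_left (two_le ha) 3
  have t : LT K (2 ^ a) ⊤ Z Zm Q A :=
    { cardZ := l.cardZ
      cardQ := l.cardQ
      ZQ := l.ZQ
      comQ := l.comQ
      cenQ := fun g _ => l.cenQ g
      sqZ := l.sqZ
      isoA := ⟨eA⟩
      simA := eA.isSimpleGroup_congr.2 (H320.Kill.simple_sl CharTwo.two_eq_zero (by
        rw [Nat.card_eq_fintype_card, hK]; omega))
      cardA := by rw [Nat.card_congr eA.toEquiv, card_sl, hK, ← pow_mul (2 ^ a)]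
      cenA := fun g => (l.cenA g).trans ⟨fun h => ⟨mem_top g, h⟩, fun h => h.2⟩
      nQ := l.nQ
      irr := l.irr
      gen := l.gen
      w := by
        obtain ⟨w, -, hw, h⟩ := l.w
        refine ⟨w, le_antisymm ?_ fun y hy => ⟨w⁻¹ * y * w, (h _).2 ?_, ?_⟩⟩
        · rintro _ ⟨z, hz, rfl⟩
          exact (h z).1 hz
        · rwa [show w * (w⁻¹ * y * w) * w⁻¹ = y by group]
        · show w * (w⁻¹ * y * w) * w⁻¹ = y
          group
      nP := fun h => by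
        obtain ⟨z, hz, h1⟩ := exists_ne (two_le ha) l.cardZ
        obtain ⟨w, hw, -, h2⟩ := l.w
        have k1 : Nontrivial ↥(Z ⊔ Zm) := ⟨⟨z, mem_sup_left hz⟩, 1, fun k => h1 (congrArg Subtype.val k)⟩
        obtain ⟨⟨c, hc⟩, h3⟩ := @_root_.exists_ne _ h.center_nontrivial 1
        have k2 : ∀ y ∈ Z ⊔ Zm, y * c = c * y := fun y hy => congrArg Subtype.val (mem_center_iff.1 hc ⟨y, hy⟩)
        have k3 : (c : T) ∈ A := (l.cenA c).2 ⟨fun y hy => (k2 y (mem_sup_left hy)).symm,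
          fun y hy => (k2 y (mem_sup_right hy)).symm⟩
        have k4 : ∀ g ∈ A, g * c = c * g := fun g hg => by
          have := (sup_le (a := Z) (b := Zm) (c := centralizer {g})
            (fun y hy => mem_centralizer_singleton_iff.2 (((l.cenA g).1 hg).1 y hy).symm)
            fun y hy => mem_centralizer_singleton_iff.2 (((l.cenA g).1 hg).2 y hy).symm) c.2
          exact (mem_centralizer_singleton_iff.1 this).symm
        have hs : IsSimpleGroup A := eA.isSimpleGroup_congr.2 (H320.Kill.simple_sl CharTwo.two_eq_zero (by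
          rw [Nat.card_eq_fintype_card, hK]; omega))
        have k5 : (⟨c, k3⟩ : A) ∈ center A := mem_center_iff.2 fun g => Subtype.ext (k4 g g.2)
        rcases (inferInstance : (center A).Normal).eq_bot_or_eq_top with k | k
        · rw [k, mem_bot] at k5
          have k6 : (c : T) = 1 := congrArg Subtype.val k5
          exact h3 (Subtype.ext (Subtype.ext k6))
        · have k6 : IsMulCommutative A := ⟨⟨fun a b => (mem_center_iff.1 (k ▸ mem_top b : b ∈ center _) a)⟩⟩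
          have k7 := (comm_congr eA.symm k6).is_comm.comm ⟨!![1, 1; 0, 1], by simp⟩ ⟨!![1, 0; 1, 1], by simp⟩
          have k8 : (!![1, 1; 0, 1] * !![1, 0; 1, 1] : Matrix (Fin 2) (Fin 2) K) 0 0 =
              (!![1, 0; 1, 1] * !![1, 1; 0, 1] : Matrix (Fin 2) (Fin 2) K) 0 0 :=
            congrArg (fun m : SL(2, K) => m.1 0 0) k7
          simp at k8 }
  have t' := t.map T.subtype_injective
  rw [← MonoidHom.range_eq_map, range_subtype] at t'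
  exact ⟨_, _, _, _, t'⟩

theorem exists_LN (ha : 1 ≤ a) (hF : Fintype.card F = 2 ^ a) {S : Type} [Group S] {N : Subgroup S}
    (e : N ≃* Matrix.symplecticGroup (Fin 4) F) : ∃ Z Zm R L, LN F (2 ^ a) N Z Zm R L := by
  obtain ⟨Z, Zm, R, L, l⟩ := S8.exists_loc8 hF ha e
  have t : LN F (2 ^ a) ⊤ Z Zm R L :=
    { cardZ := l.cardZ
      cardR := l.cardR
      ZR := l.ZR
      sqZ := fun z hz => l.sqR z (l.ZR hz)
      comR := l.comR
      nR := l.nR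
      cenL := fun g hg => (l.cenL g).1 hg
      fixR := l.fixR
      isoL := l.isoL
      le := le_top
      gen := l.gen
      w := by
        obtain ⟨w, -, hw, h⟩ := l.w
        refine ⟨w, le_antisymm ?_ fun y hy => ⟨w⁻¹ * y * w, (h _).2 ?_, ?_⟩⟩
        · rintro _ ⟨z, hz, rfl⟩
          exact (h z).1 hz
        · rwa [show w * (w⁻¹ * y * w) * w⁻¹ = y by group]
        · show w * (w⁻¹ * y * w) * w⁻¹ = y
          group
      nP := l.np }
  have t' := t.map N.subtype_injective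
  rw [← MonoidHom.range_eq_map, range_subtype] at t'
  exact ⟨_, _, _, _, t'⟩

theorem six (ha : 1 ≤ a) (hF : Fintype.card F = 2 ^ a) : Six F (2 ^ a) where
  simple := S8.simple_sp hF ha le_rfl
  nab := by
    have := charTwo ha hF
    exact S8.nonab CharTwo.two_eq_zero 2
  dvd := by
    rw [S0245.result hF 3, Finset.prod_range_succ]
    refine Dvd.dvd.mul_left (Dvd.dvd.mul_left ⟨(2 ^ a - 1) * ((2 ^ a) ^ 3 + 1), ?_⟩ _) _
    obtain ⟨m, hm⟩ : ∃ m, 2 ^ a = m + 1 := ⟨2 ^ a - 1, by have := two_le ha; omega⟩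
    rw [hm, Nat.add_sub_cancel]
    exact Nat.sub_eq_of_eq_add (by ring)

theorem cop (_ : 1 ≤ a) {k : ℕ} (hk : k ≠ 0) : (2 ^ a).Coprime ((2 ^ a) ^ k - 1) :=
  ((Nat.coprime_pow_left_iff (Nat.pos_of_ne_zero hk) _ _).1
    ((Nat.coprime_self_sub_right (Nat.one_le_pow _ _ (by positivity))).2 (Nat.coprime_one_right _)))

theorem cop' : (2 ^ a).Coprime ((2 ^ a) ^ 8 + (2 ^ a) ^ 4 + 1) := by
  rw [show (2 ^ a) ^ 8 + (2 ^ a) ^ 4 + 1 = 1 + 2 ^ a * ((2 ^ a) ^ 7 + (2 ^ a) ^ 3) by ring, Nat.coprime_add_mul_left_right]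
  exact Nat.coprime_one_right _

theorem not_dvd (ha : 1 ≤ a) (hF : Fintype.card F = 2 ^ a) : ¬ (2 ^ a) ^ 26 ∣ Nat.card (SS F) := fun h => by
  rw [S1062.result hF, mul_assoc, mul_assoc, mul_assoc, show 26 = 24 + 2 from rfl, pow_add,
    Nat.mul_dvd_mul_iff_left (by positivity)] at h
  have h1 := Nat.Coprime.eq_one_of_dvd ((cop ha (by norm_num)).mul_right ((cop ha (by norm_num)).mul_right
    ((cop ha (by norm_num)).mul_right (cop ha (by norm_num))))) ((dvd_pow_self _ (by norm_num)).trans h)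
  have := two_le ha
  omega

end

section perm

variable {Ω : Type} [Fintype Ω] [DecidableEq Ω] {X H T M S M₁ S₁ M₂ S₂ : Subgroup (Perm Ω)}

/-- the stabiliser of `x` in `S` has a normal subgroup `Sp₈(F)` -/
def Row (F : Type) [Field F] (S : Subgroup (Perm Ω)) (x : Ω) : Prop :=
  ∃ N : Subgroup (Perm Ω), N ≤ S ⊓ stabilizer (Perm Ω) x ∧ (∀ g ∈ S ⊓ stabilizer (Perm Ω) x, ∀ n ∈ N, g * n * g⁻¹ ∈ N) ∧
    Nonempty (N ≃* Matrix.symplecticGroup (Fin 4) F)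

theorem rig_id (u₁ : Up X H T M₁ S₁) (θ : S₁ ≃* S₂)
    (hT : ∀ t (ht : t ∈ T), (θ ⟨t, u₁.le ht⟩ : Perm Ω) = t) {a b : Ω}
    (hB : ∀ s : S₁, (s : Perm Ω) a = a → (θ s : Perm Ω) b = b) (s : S₁) : (θ s : Perm Ω) = s := by
  have hb : b = a := u₁.socH.eq_of_fix u₁.prim u₁.two fun t ht e => by
    have := hB ⟨t, u₁.le ht⟩ e
    rwa [hT t ht] at this
  subst hb
  refine Perm.ext fun x => ?_
  obtain ⟨t, ht, rfl⟩ := u₁.trans b x
  obtain ⟨t', ht', e⟩ := u₁.trans b ((s : Perm Ω) (t b))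
  have h2 := hB ((⟨t', u₁.le ht'⟩ : S₁)⁻¹ * s * ⟨t, u₁.le ht⟩) (Perm.inv_eq_iff_eq.2 e.symm)
  rw [map_mul, map_mul, map_inv] at h2
  have h3 : (θ ⟨t', u₁.le ht'⟩ : Perm Ω)⁻¹ ((θ s : Perm Ω) ((θ ⟨t, u₁.le ht⟩ : Perm Ω) b)) = b := h2
  rw [hT t ht, hT t' ht', Perm.inv_eq_iff_eq] at h3
  rw [h3, e]

/-- the image of a subgroup of `S` in the model -/
def im {S₀ : Type} [Group S₀] (φ : S ≃* S₀) (Y : Subgroup (Perm Ω)) : Subgroup S₀ := (Y.subgroupOf S).map φ.toMonoidHom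

theorem mem_im {S₀ : Type} [Group S₀] (φ : S ≃* S₀) (Y : Subgroup (Perm Ω)) (s : S) : φ s ∈ im φ Y ↔ (s : Perm Ω) ∈ Y :=
  mem_map_iff_mem (f := φ.toMonoidHom) φ.injective

/-- the isomorphism onto the image -/
noncomputable def imE {S₀ : Type} [Group S₀] (φ : S ≃* S₀) {Y : Subgroup (Perm Ω)} (h : Y ≤ S) : Y ≃* im φ Y :=
  (subgroupOfEquivOfLe h).symm.trans ((Y.subgroupOf S).equivMapOfInjective φ.toMonoidHom φ.injective)

theorem imE_apply {S₀ : Type} [Group S₀] (φ : S ≃* S₀) {Y : Subgroup (Perm Ω)} (h : Y ≤ S) (y : Y) :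
    (imE φ h y : S₀) = φ ⟨y, h y.2⟩ := rfl

theorem im_trans {S₀ : Type} [Group S₀] (φ : S ≃* S₀) (τ : MulAut S₀) (Y : Subgroup (Perm Ω)) :
    im (φ.trans τ) Y = τ • im φ Y := (map_map _ τ.toMonoidHom φ.toMonoidHom).symm

variable {F K : Type} [Field F] [Fintype F] [Field K] [Fintype K] {a : ℕ} {Z Zm Q L : Subgroup (SS F)} {γ : MulAut (SS F)}

/-- **The point stabiliser in the model.** -/
theorem stab (ha : 1 ≤ a) (hF : Fintype.card F = 2 ^ a) (hK : Fintype.card K = (2 ^ a) ^ 3) (U : LocU (2 ^ a) Z Q)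
    (V : LocL F Z Zm Q L) (W : LocF (2 ^ a) Z Zm Q L γ) (u : Up X H T M S) (φ : S ≃* SS F)
    (e : T ≃* twistedD4 K (2 ^ a)) (s : Std K (2 ^ a) Z Zm Q (im φ T)) {x : Ω} (r : Row F S x) :
    ∃ p : SS F, ∀ g : S, (g : Perm Ω) x = x ↔ p * φ g * p⁻¹ ∈ normalizer ((Zc Q ⊔ L ⊔ Zm : Subgroup (SS F)) : Set (SS F)) := by
  obtain ⟨N, hN, hn, ⟨eN⟩⟩ := r
  have fin : Finite (SS F) := Finite.of_equiv _ φ.toEquiv
  have f := u.fac x
  have hNS : N ≤ S := hN.trans inf_le_left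
  have h6 := six ha hF
  obtain ⟨_, _, _, _, l⟩ := S8.exists_loc8 hF ha eN
  obtain ⟨Z', Zm', R, L', n⟩ := exists_LN ha hF ((imE φ hNS).symm.trans eN)
  obtain ⟨p, hp⟩ := n.two ha h6 U V W s
  have hC : ∀ g ∈ S, (∀ y ∈ N, g * y = y * g) → g = 1 := fun g hg h => by
    have k : ∀ σ : MulAut (SS F), σ • im φ N = Zc Q ⊔ L ⊔ Zm → g = 1 := fun σ hσ => by
      have k1 := cenB h6 U V (g := σ (φ ⟨g, hg⟩)) (by
        rw [← hσ]
        rintro _ ⟨_, ⟨y, hy, rfl⟩, rfl⟩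
        show σ (φ _) * σ (φ y) = σ (φ y) * σ (φ _)
        rw [← map_mul, ← map_mul, ← map_mul, ← map_mul]
        exact congrArg _ (congrArg _ (Subtype.ext (h y hy))))
      rw [map_eq_one_iff _ σ.injective, map_eq_one_iff _ φ.injective] at k1
      exact congrArg Subtype.val k1
    exact hp.elim (k _) (k _)
  have h0 : N ≠ ⊥ := fun k => by
    have := l.simple.toNontrivial
    rw [k] at this
    exact not_nontrivial _ this
  have hB : ∀ b ∈ M ⊓ stabilizer (Perm Ω) x, ∀ y ∈ N, b * y * b⁻¹ ∈ N := fun b hb => by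
    have k0 : ∀ b ∈ M ⊓ stabilizer (Perm Ω) x, ∀ y ∈ S ⊓ stabilizer (Perm Ω) x, b * y * b⁻¹ ∈ S ⊓ stabilizer (Perm Ω) x :=
      fun b hb y hy => ⟨u.socM.conj b hb.1 y hy.1, (stabilizer (Perm Ω) x).mul_mem ((stabilizer (Perm Ω) x).mul_mem hb.2 hy.2)
        ((stabilizer (Perm Ω) x).inv_mem hb.2)⟩
    have k1 : ∀ g ∈ N, ∀ y ∈ N.map (MulAut.conj b).toMonoidHom, g * y * g⁻¹ ∈ N.map (MulAut.conj b).toMonoidHom := by
      rintro g hg _ ⟨y, hy, rfl⟩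
      refine ⟨_, hn _ (k0 _ (inv_mem hb) g (hN hg)) y hy, ?_⟩
      show b * (b⁻¹ * g * b⁻¹⁻¹ * y * (b⁻¹ * g * b⁻¹⁻¹)⁻¹) * b⁻¹ = g * (b * y * b⁻¹) * g⁻¹
      group
    rcases inf_or_le l.simple k1 with k | k
    · refine absurd ((eq_bot_iff_forall _).2 fun y hy => ?_) h0
      have k2 := k0 b hb y (hN hy)
      refine (MulAut.conj b).injective ((hC _ k2.1 fun g hg => ?_).trans (map_one _).symm)
      have k3 : b * y * b⁻¹ * g * (b * y * b⁻¹)⁻¹ * g⁻¹ ∈ N.map (MulAut.conj b).toMonoidHom ⊓ N := by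
        refine mem_inf.2 ⟨?_, N.mul_mem (hn _ k2 g hg) (N.inv_mem hg)⟩
        rw [show b * y * b⁻¹ * g * (b * y * b⁻¹)⁻¹ * g⁻¹ = b * y * b⁻¹ * (g * (b * y * b⁻¹) * g⁻¹)⁻¹ by group]
        exact mul_mem ⟨y, hy, rfl⟩ (inv_mem (k1 g hg _ ⟨y, hy, rfl⟩))
      rw [k, mem_bot, mul_inv_eq_one, mul_inv_eq_iff_eq_mul] at k3
      exact k3
    · intro y hy
      exact (eq_of_le_of_card_ge k (card_map_eq (MulAut.conj b).injective N).le).ge ⟨y, hy, rfl⟩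
  have hNB : N ≤ M ⊓ stabilizer (Perm Ω) x := hN.trans (inf_le_inf_right _ u.socM.le)
  have hst : ∀ g : S, (g : Perm Ω) x = x ↔ φ g ∈ normalizer (im φ N : Set (SS F)) := fun g => by
    constructor
    · intro hg
      refine mem_norm ?_
      rintro _ ⟨y, hy, rfl⟩
      exact ⟨g * y * g⁻¹, hn g ⟨g.2, hg⟩ y hy, by rw [map_mul, map_mul, map_inv]; rfl⟩
    · intro hg
      refine (f.asM.mem_of_norm f.bm f.nB hNB h0 hB (u.socM.le g.2) (mem_norm fun y hy => ?_)).2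
      have k := conj_mem hg ((mem_im φ N ⟨y, hNS hy⟩).2 hy)
      rw [← map_inv, ← map_mul, ← map_mul, mem_im] at k
      exact k
  rcases hp with hp | hp
  · refine ⟨p, fun g => (hst g).trans ?_⟩
    rw [← hp, ← H70.AutFix.smul_normalizer]
    exact (H70.AutFix.apply_mem_smul_iff (MulAut.conj p) _ _).symm
  · exfalso
    obtain ⟨D, hD, cD, g, hg⟩ := W.mix
    obtain ⟨Q', A, t, hQ'⟩ := s
    have c1 := card_mul_card_le hQ' hD
    rw [t.cardQ, U.cardQ] at c1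
    have c2 : 2 ^ (a * 5) ≤ Nat.card ↥(Q' ⊓ D) := by
      refine Nat.le_of_mul_le_mul_left (c := (2 ^ a) ^ 15) (le_trans ?_ c1) (by positivity)
      calc (2 ^ a) ^ 15 * 2 ^ (a * 5) = (2 ^ a) ^ 9 * (2 ^ a) ^ 11 := by rw [pow_mul]; ring
        _ ≤ _ := Nat.mul_le_mul_left _ cD
    have c3 := pow_dvd_card ((isP t.cardQ).to_le (inf_le_left : Q' ⊓ D ≤ Q')) c2
    obtain ⟨c, hc⟩ := φ.surjective (g⁻¹ * γ⁻¹ p)
    obtain ⟨t₁, ht₁, b, hb, e₁⟩ := f.fac c c.2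
    have hbS : b ∈ S := by
      rw [show b = t₁⁻¹ * c by rw [e₁, inv_mul_cancel_left]]
      exact mul_mem (inv_mem (u.le ht₁)) c.2
    have c4 : (Q' ⊓ D).map (MulAut.conj (φ ⟨t₁, u.le ht₁⟩)⁻¹).toMonoidHom ≤ im φ (T ⊓ (M ⊓ stabilizer (Perm Ω) x)) := by
      rintro _ ⟨d, hd, rfl⟩
      obtain ⟨y, rfl⟩ := φ.surjective d
      have k1 : (y : Perm Ω) ∈ T := (mem_im φ T y).1 (t.gen ▸ mem_sup_left hd.1)
      have k2 := hg _ hd.2
      rw [← hp, H70.AutFix.mem_smul_iff] at k2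
      have k3 : (MulAut.conj p * γ)⁻¹ (γ (g * φ y * g⁻¹)) = φ (c⁻¹ * y * c) := by
        rw [map_mul φ, map_mul φ, map_inv φ, hc]
        simp [mul_assoc]
      rw [k3, mem_im] at k2
      show (φ _)⁻¹ * φ y * (φ _)⁻¹⁻¹ ∈ _
      rw [inv_inv, ← map_inv, ← map_mul, ← map_mul, mem_im]
      refine ⟨T.mul_mem (T.mul_mem (T.inv_mem ht₁) k1) ht₁, hNB ?_⟩
      have k4 := hB b hb _ k2
      rwa [coe_mul, coe_mul, coe_inv, e₁, show b * ((t₁ * b)⁻¹ * y * (t₁ * b)) * b⁻¹ = t₁⁻¹ * y * t₁ by group] at k4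
    have c5 := card_dvd_of_le c4
    rw [card_map_eq (MulAut.conj _).injective, ← Nat.card_congr (imE φ (inf_le_left.trans u.le)).toEquiv] at c5
    have as : AS (S ⊓ (M ⊓ stabilizer (Perm Ω) x)) N :=
      ⟨le_inf hNS hNB, fun g hg => hB g hg.2, l.simple, l.nonab, fun g hg => hC g hg.1⟩
    have c6 := card_dvd_of_injective _ as.aut_injective
    have c7 : Nat.card S * 2 ^ (a * 5) ∣ Nat.card T * (Nat.card N * a) :=
      (Nat.mul_dvd_mul_left _ (c3.trans c5)).trans (f.card_eq ▸ Nat.mul_dvd_mul_left _ (l.aut ▸ c6))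
    rw [Nat.card_congr φ.toEquiv, Nat.card_congr e.toEquiv, S1062.result hF,
      S1067.result (Nat.prime_two.isPrimePow.pow (by omega)) hK, l.cardN] at c7
    have c8 : (2 ^ a) ^ 28 * 2 ^ a ∣ (2 ^ a) ^ 28 * ((((2 ^ a) ^ 2 - 1) * (((2 ^ a) ^ 6 - 1) * (((2 ^ a) ^ 8 + (2 ^ a) ^ 4 + 1) *
        (((2 ^ a) ^ 2 - 1) * (((2 ^ a) ^ 4 - 1) * (((2 ^ a) ^ 6 - 1) * ((2 ^ a) ^ 8 - 1))))))) * a) := by
      refine Dvd.dvd.trans ⟨((2 ^ a) ^ 2 - 1) * ((2 ^ a) ^ 6 - 1) * ((2 ^ a) ^ 8 - 1) * ((2 ^ a) ^ 12 - 1), ?_⟩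
        (c7.trans (dvd_of_eq (by ring)))
      rw [pow_mul]
      ring
    rw [Nat.mul_dvd_mul_iff_left (by positivity)] at c8
    have c9 := ((cop ha (by norm_num)).mul_right ((cop ha (by norm_num)).mul_right (cop'.mul_right
      ((cop ha (by norm_num)).mul_right ((cop ha (by norm_num)).mul_right ((cop ha (by norm_num)).mul_right
        (cop ha (by norm_num)))))))).dvd_of_dvd_mul_left c8
    exact absurd (Nat.le_of_dvd ha c9) (not_le.2 Nat.lt_two_pow_self)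

theorem pair (ha : 1 ≤ a) (hF : Fintype.card F = 2 ^ a) (hK : Fintype.card K = (2 ^ a) ^ 3) (U : LocU (2 ^ a) Z Q)
    (V : LocL F Z Zm Q L) (W : LocF (2 ^ a) Z Zm Q L γ) (u₁ : Up X H T M₁ S₁) (u₂ : Up X H T M₂ S₂) (φ₁ : S₁ ≃* SS F)
    (φ₂ : S₂ ≃* SS F) (e : T ≃* twistedD4 K (2 ^ a)) (s : Std K (2 ^ a) Z Zm Q (im φ₂ T))
    (h : ∀ t (ht : t ∈ T), φ₁ ⟨t, u₁.le ht⟩ = φ₂ ⟨t, u₂.le ht⟩) {x : Ω} (r₁ : Row F S₁ x) (r₂ : Row F S₂ x) (g : S₁) :
    (φ₂.symm (φ₁ g) : Perm Ω) = g := by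
  have h1 : im φ₁ T = im φ₂ T := le_antisymm (by
    rintro _ ⟨y, hy, rfl⟩
    exact ⟨⟨y, u₂.le hy⟩, hy, (h y hy).symm⟩) (by
    rintro _ ⟨y, hy, rfl⟩
    exact ⟨⟨y, u₁.le hy⟩, hy, h y hy⟩)
  obtain ⟨p₁, k₁⟩ := stab ha hF hK U V W u₁ φ₁ e (h1 ▸ s) r₁
  obtain ⟨p₂, k₂⟩ := stab ha hF hK U V W u₂ φ₂ e s r₂
  refine rig_id u₁ (φ₁.trans φ₂.symm) (fun t ht => ?_) (a := x) (b := (φ₂.symm (p₁⁻¹ * p₂) : Perm Ω) x)
    (fun g hg => ?_) g
  · show (φ₂.symm (φ₁ _) : Perm Ω) = t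
    rw [h t ht, φ₂.symm_apply_apply]
  · have k := (k₂ ((φ₂.symm (p₁⁻¹ * p₂))⁻¹ * φ₂.symm (φ₁ g) * φ₂.symm (p₁⁻¹ * p₂))).2 (by
      rw [map_mul, map_mul, map_inv, φ₂.apply_symm_apply, φ₂.apply_symm_apply,
        show p₂ * ((p₁⁻¹ * p₂)⁻¹ * φ₁ g * (p₁⁻¹ * p₂)) * p₂⁻¹ = p₁ * φ₁ g * p₁⁻¹ by group]
      exact (k₁ g).1 hg)
    exact Perm.inv_eq_iff_eq.1 k

/-- **Rigidity**, from the local structure -/
theorem rig_loc (ha : 1 ≤ a) (hF : Fintype.card F = 2 ^ a) (hK : Fintype.card K = (2 ^ a) ^ 3) (U : LocU (2 ^ a) Z Q)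
    (V : LocL F Z Zm Q L) (W : LocF (2 ^ a) Z Zm Q L γ) (u₁ : Up X H T M₁ S₁) (u₂ : Up X H T M₂ S₂) (φ₁ : S₁ ≃* SS F)
    (φ₂ : S₂ ≃* SS F) (e : T ≃* twistedD4 K (2 ^ a)) {x : Ω} (r₁ : Row F S₁ x) (r₂ : Row F S₂ x) : M₁ = M₂ := by
  have fin : Finite (SS F) := Finite.of_equiv _ φ₁.toEquiv
  have c2 : CharP F 2 := charTwo ha hF
  have c3 : CharP K 2 := charTwo (a := a * 3) (by omega) (hK.trans (pow_mul 2 a 3).symm)
  have hFK : Nat.card K = Nat.card F ^ 3 := by rw [Nat.card_eq_fintype_card, Nat.card_eq_fintype_card, hF, hK]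
  have two : ∀ T' : Subgroup (SS F), (T' ≃* twistedD4 K (2 ^ a)) →
      ∃ p, Std K (2 ^ a) Z Zm Q (MulAut.conj p • T') ∨ Std K (2 ^ a) Z Zm Q ((MulAut.conj p * γ) • T') := fun T' e' => by
    obtain ⟨_, _, _, _, t⟩ := exists_LT ha hK e'
    exact t.two ha U V W (not_dvd ha hF)
  obtain ⟨σ₂, s₂⟩ : ∃ σ : MulAut (SS F), Std K (2 ^ a) Z Zm Q (im (φ₂.trans σ) T) := by
    obtain ⟨p, h | h⟩ := two _ ((imE φ₂ u₂.le).symm.trans e) <;> exact ⟨_, (im_trans φ₂ _ T).symm ▸ h⟩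
  generalize φ₂.trans σ₂ = φ at s₂
  have two' : ∀ T' : Subgroup (SS F), (T' ≃* twistedD4 K (2 ^ a)) →
      ∃ p, MulAut.conj p • T' = im φ T ∨ (MulAut.conj p * γ) • T' = im φ T := fun T' e' => by
    obtain ⟨p, h | h⟩ := two T' e'
    · obtain ⟨c, hc⟩ := h.conj ha hFK U V s₂
      exact ⟨c * p, Or.inl (by rw [map_mul, mul_smul]; exact hc)⟩
    · obtain ⟨c, hc⟩ := h.conj ha hFK U V s₂
      exact ⟨c * p, Or.inr (by rw [map_mul, mul_assoc, mul_smul]; exact hc)⟩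
  obtain ⟨σ₁, s₁⟩ : ∃ σ : MulAut (SS F), im (φ₁.trans σ) T = im φ T := by
    obtain ⟨p, h | h⟩ := two' _ ((imE φ₁ u₁.le).symm.trans e) <;> exact ⟨_, (im_trans φ₁ _ T).trans h⟩
  generalize φ₁.trans σ₁ = φ' at s₁
  have e₂ := (imE φ u₂.le).symm.trans e
  obtain ⟨τ, hτ⟩ := extend (γ := γ) (T := im φ T) (m := a)
    (fun σ => two' _ (((im φ T).equivMapOfInjective σ.toMonoidHom σ.injective).symm.trans e₂))
    (s₂.three ha hFK U V)
    (by
      rw [card_aut (φ.isSimpleGroup_congr.1 u₂.socM.simple) fun k => u₂.socM.nab (comm_congr φ k), S2122.result 2 a hF]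
      rfl)
    (by
      rw [Nat.card_congr (MulAut.congr e₂).toEquiv, card_aut (e.isSimpleGroup_congr.1 u₂.socH.simple)
        fun k => u₂.socH.nab (comm_congr e k), S2129.result 2 a (by rw [hK, ← pow_mul, mul_comm]) ha,
        Nat.card_congr e₂.toEquiv])
    (fun τ hτ => MulEquiv.ext fun y => by
      obtain ⟨y, rfl⟩ := φ.surjective y
      have k := pair ha hF hK U V W u₂ u₂ (φ.trans τ) φ e s₂ (fun t ht => hτ _ ((mem_im φ T _).2 ht)) r₂ r₂ y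
      exact φ.symm_apply_eq.1 (Subtype.ext k))
    ((((imE φ' u₁.le).trans (MulEquiv.subgroupCongr s₁)).symm).trans (imE φ u₂.le))
  have k := pair ha hF hK U V W u₁ u₂ (φ'.trans τ) φ e s₂ (fun t ht => by
    have := hτ (((imE φ' u₁.le).trans (MulEquiv.subgroupCongr s₁)) ⟨t, ht⟩)
    rw [MulEquiv.trans_apply (e₂ := imE φ u₂.le), MulEquiv.symm_apply_apply] at this
    exact this) r₁ r₂
  exact u₁.rig u₂ ((φ'.trans τ).trans φ.symm) (fun t _ => k _) (a := x) (b := x) fun g hg => (k g).symm ▸ hg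

/-- **Rigidity**, from the three boxes -/
theorem rig_of (hU : BoxU) (hL : BoxL) (hW : BoxF) (ha : 1 ≤ a) (hF : Fintype.card F = 2 ^ a)
    (hK : Fintype.card K = (2 ^ a) ^ 3) (u₁ : Up X H T M₁ S₁) (u₂ : Up X H T M₂ S₂) (φ₁ : S₁ ≃* chevF4.group F)
    (φ₂ : S₂ ≃* chevF4.group F) (e : T ≃* twistedD4 K (2 ^ a)) {x : Ω} (r₁ : Row F S₁ x) (r₂ : Row F S₂ x) : M₁ = M₂ := by
  have c2 : CharP F 2 := charTwo ha hF
  obtain ⟨γ, hγ⟩ := H95.DG.F4.exists_isGraph (F := F)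
  exact rig_loc ha hF hK (hF ▸ hU F) (hL F) (hF ▸ hW F γ hγ) u₁ u₂ φ₁ φ₂ e r₁ r₂

end perm

end Cfsg.Agent.SM.F4
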